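import Cfsg.Agent.SchurG.U62.Main
import Cfsg.Agent.Schur.Mx
import Cfsg.Agent.S0280

set_option autoImplicit false
set_option maxRecDepth 100000

namespace Cfsg.Agent.SchurG.U62
open Cfsg.Agent.Comp Cfsg.Agent.Schur Matrix

def I : List Nat := [nat_lit 1, nat_lit 16, nat_lit 256, nat_lit 4096, nat_lit 65536, nat_lit 1048576, nat_lit 16777216, nat_lit 268435456, nat_lit 4294967296, nat_lit 68719476736, nat_lit 1099511627776, nat_lit 17592186044416]

def C : List Nat := [nat_lit 1, nat_lit 16, nat_lit 256, nat_lit 4096, nat_lit 65536, nat_lit 1048576]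

def O : List Nat := [nat_lit 16777216, nat_lit 268435456, nat_lit 4294967296, nat_lit 68719476736, nat_lit 1099511627776, nat_lit 17592186044416, nat_lit 16777217, nat_lit 268435472, nat_lit 4294967552, nat_lit 68719480832, nat_lit 1099511693312, nat_lit 17592187092992]

def en : Fin 6 → ℕ := Fin.val

def bs : List (Fin 6 → K4) := (List.finRange 6).map (fun j => Pi.single j 1) ++ (List.finRange 6).map (fun j => Pi.single j w4)

theorem ms : MS (nat_lit 2) (nat_lit 4) (nat_lit 15) (nat_lit 6) I C O bs en (w4 : K4) :=
  ⟨by decide +kernel, by decide +kernel, by decide +kernel, by decide +kernel, by decide +kernel⟩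

def M : List (List Nat) :=
  [[nat_lit 1, nat_lit 16, nat_lit 68720594944, nat_lit 18695992639488, nat_lit 68720529664, nat_lit 68719546624, nat_lit 16777216, nat_lit 268435456, nat_lit 18691697676288, nat_lit 18695993753856, nat_lit 17596481015808, nat_lit 1103806599168],
   [nat_lit 18760686702848, nat_lit 18764728893697, nat_lit 18691966107905, nat_lit 18691984003088, nat_lit 73299722512, nat_lit 73300705552, nat_lit 4564520976, nat_lit 18760418267393, nat_lit 18696278966288, nat_lit 68737368081, nat_lit 1168247886097, nat_lit 17660922302737],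
   [nat_lit 18764713230593, nat_lit 18695992643600, nat_lit 18691983999248, nat_lit 17895441, nat_lit 4581232656, nat_lit 4580249616, nat_lit 68737372416, nat_lit 18764981666048, nat_lit 4312858641, nat_lit 18760685584385, nat_lit 17665217265937, nat_lit 1172542849297],
   [nat_lit 73283993856, nat_lit 18696010534913, nat_lit 18760702365712, nat_lit 18696010530833, nat_lit 73283928321, nat_lit 73282945281, nat_lit 18760685588752, nat_lit 73015558401, nat_lit 18691715567633, nat_lit 4564517121, nat_lit 17661190738192, nat_lit 1168516321552],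
   [nat_lit 73282879744, nat_lit 4311748609, nat_lit 285212944, nat_lit 16781329, nat_lit 1048576, nat_lit 65536, nat_lit 68987916560, nat_lit 73014444289, nat_lit 4311744529, nat_lit 68987912193, nat_lit 17592186044416, nat_lit 1099511627776],
   [nat_lit 4564520960, nat_lit 18760435044609, nat_lit 17891601, nat_lit 18691966111745, nat_lit 68987982081, nat_lit 68988965121, nat_lit 18764980551952, nat_lit 4296085505, nat_lit 18696261074945, nat_lit 18760703475728, nat_lit 1104091811856, nat_lit 17596766228496],
   [nat_lit 18691967221760, nat_lit 18691714449409, nat_lit 1114368, nat_lit 18691697676288, nat_lit 69004759312, nat_lit 69005742352, nat_lit 269549584, nat_lit 18691698786305, nat_lit 18695992639488, nat_lit 18760418263040, nat_lit 1103823376401, nat_lit 17596497793041],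
   [nat_lit 18696262193152, nat_lit 18760433930497, nat_lit 18691715563793, nat_lit 269553665, nat_lit 4580249616, nat_lit 4581232656, nat_lit 73283993872, nat_lit 18695993757697, nat_lit 4564516865, nat_lit 18760702361616, nat_lit 1172542849297, nat_lit 17665217265937],
   [nat_lit 4564520960, nat_lit 18760435044609, nat_lit 18760435044369, nat_lit 4564516865, nat_lit 4563472385, nat_lit 4564455425, nat_lit 18764980551952, nat_lit 4296085505, nat_lit 269553665, nat_lit 18696277852432, nat_lit 1172811284752, nat_lit 17665485701392],
   [nat_lit 18695992643600, nat_lit 18695992643585, nat_lit 285212945, nat_lit 4113, nat_lit 285278225, nat_lit 286261265, nat_lit 18764981666048, nat_lit 18764730007808, nat_lit 4294967313, nat_lit 69004689408, nat_lit 1099511627793, nat_lit 17592186044433],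
   [nat_lit 17891329, nat_lit 18764980551936, nat_lit 18764980555776, nat_lit 18764980551696, nat_lit 1172794511633, nat_lit 17665468928273, nat_lit 18691697672193, nat_lit 18760686702864, nat_lit 18696262193424, nat_lit 18764713234704, nat_lit 1099528474896, nat_lit 17592203874576],
   [nat_lit 17891328, nat_lit 18764980551952, nat_lit 18764980556032, nat_lit 18764980555792, nat_lit 1172794577169, nat_lit 17665469976849, nat_lit 18691714449409, nat_lit 18760418267408, nat_lit 18691967226128, nat_lit 18695993757968, nat_lit 16847120, nat_lit 17830160],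
   [nat_lit 18764980555776, nat_lit 68737368321, nat_lit 68737368081, nat_lit 18696278966544, nat_lit 68737302801, nat_lit 68736319761, nat_lit 18696262193424, nat_lit 18764712120321, nat_lit 18760685588481, nat_lit 17891601, nat_lit 17665468928001, nat_lit 1172794511361],
   [nat_lit 1168231170064, nat_lit 1168231170049, nat_lit 256, nat_lit 1099796840465, nat_lit 69004693504, nat_lit 1048576, nat_lit 68987981824, nat_lit 68736323584, nat_lit 4294967296, nat_lit 1099511693329, nat_lit 285216785, nat_lit 17592186044416],
   [nat_lit 16777216, nat_lit 268435456, nat_lit 4294967296, nat_lit 68719476736, nat_lit 1099511627776, nat_lit 17592186044416, nat_lit 16777217, nat_lit 268435472, nat_lit 4294967552, nat_lit 68719480832, nat_lit 1099511693312, nat_lit 17592187092992]]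

theorem Mok : MOK (nat_lit 2) (nat_lit 4) bs en M := ms.mok (by decide +kernel)

/-- the matrices of the letters -/
def Mm : ℕ → Matrix (Fin 6) (Fin 6) (K4) := mat (nat_lit 4) bs en M

def Zs : List (List Nat) :=
  [[],
   [],
   [],
   [],
   [],
   [],
   [],
   [],
   [],
   [],
   [],
   [],
   [],
   [],
   [],
   [],
   [],
   [],
   [],
   [],
   [],
   [],
   [],
   [],
   [],
   [],
   [],
   [],
   [],
   [],
   [],
   [],
   [],
   [],
   [],
   [],
   [],
   [],
   [],
   [],
   [],
   [],
   [],
   [],
   [],
   [],
   [],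
   [],
   [],
   [],
   [],
   [],
   [],
   [],
   [],
   [],
   [],
   [],
   [],
   [],
   [],
   [],
   [],
   [],
   [],
   [],
   [],
   [],
   [],
   [],
   [],
   [],
   [],
   [],
   [],
   [],
   [],
   [],
   [],
   [],
   [],
   [],
   [],
   [],
   [],
   [],
   [],
   [],
   [],
   [],
   [],
   [],
   [14],
   [],
   [],
   [],
   [],
   [],
   [],
   [],
   [],
   [],
   [],
   [],
   [],
   [],
   [],
   [],
   [],
   [],
   [],
   [],
   [],
   [],
   [],
   [],
   [],
   []]

theorem eqsM : ∀ e ∈ (R.zip Zs), ev Mm e.1 = ev Mm e.2 := ms.eqs Mok (by decide +kernel)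

def RI : List (List Nat) := [[0, 0],
[1, 1],
[2, 2],
[3, 3],
[4, 4],
[5, 5],
[6, 6],
[7, 7],
[8, 8],
[9, 9],
[12, 12],
[13, 13]]

theorem satI : Sat Mm RI := ms.sat Mok (by decide +kernel)

def ED : List (List Nat × List Nat) :=
  [([10], [0, 13, 12, 8, 13, 12, 8, 13, 3, 12, 9]),
   ([11], [9, 12, 3, 13, 8, 12, 13, 8, 12, 13, 0])]

theorem eqsD : ∀ e ∈ ED, ev Mm e.1 = ev Mm e.2 := ms.eqs Mok (by decide +kernel)

theorem dets : ∀ x < 14, (Mm x).det = 1 := det_letters (by decide) satI eqsD (Z := []) (by simp) (by decide +kernel)

theorem unit : ∀ x < 14, ∀ i j, ∑ l, Mm x l i * Mm x l j ^ 2 = if i = j then 1 else 0 := by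
  decide +kernel

theorem exists_iso (F : Type*) [Field F] [Fintype F] (hF : Fintype.card F = 4) :
    Nonempty (G ≃* PSU 6 F 2) := by
  obtain ⟨e⟩ := exists_emb K4 F card_K4 hF
  have := simple
  have : CharP F 2 := Classical.Congr.charP_of_card (k := 2) (by simp [hF])
  refine equiv_quot pres hR ((slToMat_injective 6).comp Subtype.val_injective) e.injective
    (fun x hx => mem_su e 2 (k := 1) rfl (dets x hx) (unit x hx)) eqsM (c := w4)
    (a := 0) (b := 10) (by decide +kernel) (by decide +kernel) (by decide +kernel) ?_
  have h := S0280.result (q := 2) hF 6 (by norm_num)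
  rw [card.2.1]
  simp [Finset.prod_range_succ, show ¬ Even 3 by decide, show ¬ Even 5 by decide, show Even 4 by decide] at h
  change Nat.card (PSU 6 F 2) ≤ _
  omega

end Cfsg.Agent.SchurG.U62
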