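import Cfsg.Agent.SchurG.U62.Pres
import Cfsg.Agent.SchurG.U62.Top

set_option autoImplicit false
set_option maxRecDepth 100000

namespace Cfsg.Agent.SchurG.U62
open Cfsg.Agent.Comp

namespace Tk5

noncomputable def t0 : Tr := (Tr.leaf (nat_lit 0x1fffff800fffffc007ffffe003fffff001fffff800fffffc007ffffe003fffff001fffff800fffffc007ffffe003fffff001fffff800fffffe087ff020003ff831))

noncomputable def T : Tr := t0

def RT : List (List (List Nat)) := [
  [],
  []]

def HT : List (List (Nat × Nat × Nat)) := [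
  [],
  []]

def R : List (List Nat) :=
  [[0, 0]]

def W : List (List Nat) := []

noncomputable def P : Par := ⟨T, (nat_lit 4), (nat_lit 15), (nat_lit 33), (nat_lit 11), (nat_lit 2047), (nat_lit 5), (nat_lit 31), (nat_lit 1), (nat_lit 18), (nat_lit 32), (nat_lit 0x820), RT⟩

noncomputable def J0 : List Nat := [
  nat_lit 0x69249249249249249249249]

theorem c0 : chk T (nat_lit 4) (nat_lit 15) (nat_lit 33) (nat_lit 11) (nat_lit 2047) (nat_lit 5) (nat_lit 31) (nat_lit 1) (nat_lit 18) (nat_lit 32) (nat_lit 0x820) (nat_lit 1) (nat_lit 1) RT (nat_lit 16) J0 (nat_lit 16) = true := by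
  decide +kernel

theorem r0 : P.RowsOK 16 32 := chk_sound P _ _ _ J0 _ _ (by decide +kernel) c0

theorem index.{u} : IndexLe.{u} 1 R W 2 :=
  indexLe_of_cert P HT (by decide +kernel)
    (show P.RowsOK 16 32 from r0)

end Tk5

theorem upK_5 : CardLe (genW s [[0]]) 2 :=
  CardLe.tc (V' := []) (n := 2) (m := 1) [0] Tk5.index pres.sat (by decide +kernel) (by decide +kernel) (by decide +kernel) (cardLe_nil s)

namespace Tk4

noncomputable def t0 : Tr := (Tr.leaf (nat_lit 0xfffffffffffffff000fffffffffffffff000fffffffffffffff000fffffffffffffff000fffffffffffffff000fffffffffffffff000fffffffffffffff000fffffffffffffffc74fff014055076097872fff012053097076871fff011077053075851fff037011052074470fff010076075053450fff036010074052430fff035034010051000fff033032031030))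

noncomputable def T : Tr := t0

def RT : List (List (List Nat)) := [
  [[nat_lit 5],
   [nat_lit 1, nat_lit 0, nat_lit 1],
   [nat_lit 2, nat_lit 0, nat_lit 2],
   [nat_lit 3, nat_lit 0, nat_lit 3]],
  [[nat_lit 2, nat_lit 1, nat_lit 2],
   [nat_lit 3, nat_lit 1, nat_lit 3]],
  [[nat_lit 3, nat_lit 2, nat_lit 3]],
  [],
  []]

def HT : List (List (Nat × Nat × Nat)) := [
  [(2, 0, 0), (0, 4, 1), (0, 5, 1), (0, 7, 1)],
  [(0, 6, 1), (0, 8, 1)],
  [(0, 9, 1)],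
  [],
  []]

def R : List (List Nat) :=
  [[0, 0],
   [1, 1],
   [2, 2],
   [3, 3],
   [0, 1, 0, 1],
   [0, 2, 0, 2],
   [1, 2, 1, 2],
   [0, 3, 0, 3],
   [1, 3, 1, 3],
   [2, 3, 2, 3]]

def W : List (List Nat) := [[0]]

noncomputable def P : Par := ⟨T, (nat_lit 4), (nat_lit 15), (nat_lit 72), (nat_lit 12), (nat_lit 4095), (nat_lit 5), (nat_lit 31), (nat_lit 4), (nat_lit 24), (nat_lit 32), (nat_lit 0xa418820), RT⟩

noncomputable def J0 : List Nat := [
  nat_lit 0x8c8002e20060880d02218a203588868510d6a2108421084210842108421084210842108421084210842108421]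

theorem c0 : chk T (nat_lit 4) (nat_lit 15) (nat_lit 72) (nat_lit 12) (nat_lit 4095) (nat_lit 5) (nat_lit 31) (nat_lit 4) (nat_lit 24) (nat_lit 32) (nat_lit 0xa418820) (nat_lit 3) (nat_lit 7) RT (nat_lit 16) J0 (nat_lit 16) = true := by
  decide +kernel

theorem r0 : P.RowsOK 16 32 := chk_sound P _ _ _ J0 _ _ (by decide +kernel) c0

theorem index.{u} : IndexLe.{u} 4 R W 8 :=
  indexLe_of_cert P HT (by decide +kernel)
    (show P.RowsOK 16 32 from r0)

end Tk4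

theorem upK_4 : CardLe (genW s [[0], [1], [2], [3]]) 16 :=
  CardLe.tc (V' := [[0]]) (n := 8) (m := 2) [0, 1, 2, 3] Tk4.index pres.sat (by decide +kernel) (by decide +kernel) (by decide +kernel) upK_5

namespace Tk3

noncomputable def t0 : Tr := (Tr.node (nat_lit 0) (Tr.leaf (nat_lit 0x4853fff005009504a412804940df037c0df037d213fffc01303a4095049c12403780de03780de474ffff01a40130250126048c0dd03740dd0375212fffc01203a00e7025412203700dc03700dc474bfff01a0012039809404840db036c0db036d192fffc0670198012024c12003680da03680da4847fff00440e503900e202540d903640d903651d1fffc06500440e3038409403600d803600d84647fff019006300440e0024c0d7035c0d7035d151fffc0620184060004409203580d603580d62843fff00400df03780dc0364095025409502549d0fffc05f00400dd036c0d8025009402500942643fff017805d00400da035c093024c093024c950fffc05c016c05a00400d6024809202480922443fff0164058015c056004009102440910244000fffc0550150053014805101400500140050))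
(Tr.leaf (nat_lit 0xa8abfff00a80ab03b012d05b81af06bc1af06be226fffc026029c0e804a41af05b816e05b816e888ffff008c0a4039416f04a416d05b416d05b6221fffc021028812f039412805b016c05b016c8883fff00800ef02880e4049c16b05ac16b05ae1e0fffc06f00800a1038c12605a816a05a816a6877fff007409e037c16e05b412904a412904a5a1bfffc01b027012e037c16c04a012804a0128686bfff00680ee02700de05ac127049c127049d9dafffc06e006809b037416a049812604981266863fff006009904b412c037c12504941250495a17fffc01703b409904ac0de04901240490124675ffff01b4017026012a0374123048c123048da16fffc01603b00eb02640dc04881220488122675bfff01b001603a8098036c12104841210485996fffc06b01a8016025c0da04801200480120)))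

noncomputable def T : Tr := t0

def RT : List (List (List Nat)) := [
  [[nat_lit 10],
   [nat_lit 4, nat_lit 0, nat_lit 4],
   [nat_lit 5, nat_lit 0, nat_lit 5],
   [nat_lit 6, nat_lit 0, nat_lit 6],
   [nat_lit 7, nat_lit 0, nat_lit 7],
   [nat_lit 8, nat_lit 0, nat_lit 8]],
  [[nat_lit 10],
   [nat_lit 4, nat_lit 1, nat_lit 4],
   [nat_lit 5, nat_lit 1, nat_lit 5],
   [nat_lit 6, nat_lit 1, nat_lit 6],
   [nat_lit 7, nat_lit 1, nat_lit 7],
   [nat_lit 8, nat_lit 1, nat_lit 8]],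
  [[nat_lit 10],
   [nat_lit 4, nat_lit 2, nat_lit 4],
   [nat_lit 5, nat_lit 2, nat_lit 5],
   [nat_lit 6, nat_lit 2, nat_lit 6],
   [nat_lit 7, nat_lit 2, nat_lit 7],
   [nat_lit 8, nat_lit 2, nat_lit 8]],
  [[nat_lit 10],
   [nat_lit 4, nat_lit 3, nat_lit 4],
   [nat_lit 5, nat_lit 3, nat_lit 5],
   [nat_lit 6, nat_lit 3, nat_lit 6],
   [nat_lit 7, nat_lit 3, nat_lit 7],
   [nat_lit 8, nat_lit 3, nat_lit 8]],
  [[nat_lit 5, nat_lit 4, nat_lit 5],
   [nat_lit 6, nat_lit 4, nat_lit 6],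
   [nat_lit 7, nat_lit 4, nat_lit 7],
   [nat_lit 8, nat_lit 4, nat_lit 8]],
  [[nat_lit 6, nat_lit 5, nat_lit 6],
   [nat_lit 7, nat_lit 5, nat_lit 7],
   [nat_lit 8, nat_lit 5, nat_lit 8]],
  [[nat_lit 7, nat_lit 6, nat_lit 7],
   [nat_lit 8, nat_lit 6, nat_lit 8]],
  [[nat_lit 8, nat_lit 7, nat_lit 8]],
  [],
  []]

def HT : List (List (Nat × Nat × Nat)) := [
  [(2, 0, 0), (0, 15, 1), (0, 19, 1), (0, 24, 1), (0, 30, 1), (0, 37, 1)],
  [(2, 1, 0), (0, 16, 1), (0, 20, 1), (0, 25, 1), (0, 31, 1), (0, 38, 1)],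
  [(2, 2, 0), (0, 17, 1), (0, 21, 1), (0, 26, 1), (0, 32, 1), (0, 39, 1)],
  [(2, 3, 0), (0, 18, 1), (0, 22, 1), (0, 27, 1), (0, 33, 1), (0, 40, 1)],
  [(0, 23, 1), (0, 28, 1), (0, 34, 1), (0, 41, 1)],
  [(0, 29, 1), (0, 35, 1), (0, 42, 1)],
  [(0, 36, 1), (0, 43, 1)],
  [(0, 44, 1)],
  [],
  []]

def R : List (List Nat) :=
  [[0, 0],
   [1, 1],
   [2, 2],
   [3, 3],
   [4, 4],
   [5, 5],
   [6, 6],
   [7, 7],
   [8, 8],
   [0, 1, 0, 1],
   [0, 2, 0, 2],
   [1, 2, 1, 2],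
   [0, 3, 0, 3],
   [1, 3, 1, 3],
   [2, 3, 2, 3],
   [0, 4, 0, 4],
   [1, 4, 1, 4],
   [2, 4, 2, 4],
   [3, 4, 3, 4],
   [0, 5, 0, 5],
   [1, 5, 1, 5],
   [2, 5, 2, 5],
   [3, 5, 3, 5],
   [4, 5, 4, 5],
   [0, 6, 0, 6],
   [1, 6, 1, 6],
   [2, 6, 2, 6],
   [3, 6, 3, 6],
   [4, 6, 4, 6],
   [5, 6, 5, 6],
   [0, 7, 0, 7],
   [1, 7, 1, 7],
   [2, 7, 2, 7],
   [3, 7, 3, 7],
   [4, 7, 4, 7],
   [5, 7, 5, 7],
   [6, 7, 6, 7],
   [0, 8, 0, 8],
   [1, 8, 1, 8],
   [2, 8, 2, 8],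
   [3, 8, 3, 8],
   [4, 8, 4, 8],
   [5, 8, 5, 8],
   [6, 8, 6, 8],
   [7, 8, 7, 8]]

def W : List (List Nat) := [[0],
   [1],
   [2],
   [3]]

noncomputable def P : Par := ⟨T, (nat_lit 4), (nat_lit 15), (nat_lit 154), (nat_lit 14), (nat_lit 16383), (nat_lit 6), (nat_lit 63), (nat_lit 9), (nat_lit 48), (nat_lit 48), (nat_lit 0x2928398a418820), RT⟩

noncomputable def J0 : List Nat := [
  nat_lit 0x1190004640011900046400005b6e20001924110006db408801db6004407ffc00221924510006db588801db6804407ffe80221b6d0a20076d831101fff1008876d805101fff018887ffc00a21,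
  nat_lit 0xb6d6a20076da31101fffb008876da05101fffa18887ffe80a21db60d4407ffc46221fff102887ffc06a21db68d4407ffec6221fffb02887ffe86a21fff11a887ffec6a21]

theorem c0 : chk T (nat_lit 4) (nat_lit 15) (nat_lit 154) (nat_lit 14) (nat_lit 16383) (nat_lit 6) (nat_lit 63) (nat_lit 9) (nat_lit 48) (nat_lit 48) (nat_lit 0x2928398a418820) (nat_lit 3) (nat_lit 7) RT (nat_lit 16) J0 (nat_lit 16) = true := by
  decide +kernel

theorem r0 : P.RowsOK 16 48 := chk_sound P _ _ _ J0 _ _ (by decide +kernel) c0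

theorem index.{u} : IndexLe.{u} 9 R W 32 :=
  indexLe_of_cert P HT (by decide +kernel)
    (show P.RowsOK 16 48 from r0)

end Tk3

theorem upK_3 : CardLe (genW s [[0], [1], [2], [3], [4], [5], [6], [7], [8]]) 512 :=
  CardLe.tc (V' := [[0], [1], [2], [3]]) (n := 32) (m := 16) [0, 1, 2, 3, 4, 5, 6, 7, 8] Tk3.index pres.sat (by decide +kernel) (by decide +kernel) (by decide +kernel) upK_4

namespace Tk2

noncomputable def t0 : Tr := (Tr.node (nat_lit 0) (Tr.leaf (nat_lit 0x634ffff047c21b01cc163066c15c004c094059411f674bfff01c81ee00480f003b80ec03a80e9026011e664bfff01c419401c00120650119055815b025c11d654bfff01bc15201b8214004819f075c163025811c644bfff01b41df01b01d9057c012088019d025411b634bfff01ac2d701a8296075c1a00048165025011a624bfff04641e301a419b058c15d0494012024c1194747fff026012700440e8039c0e603900e103780d84647fff025c29a01a0011086809308700d503740d74547fff0258091019c25a00440e506740e003700d64447fff025412501980d30194011038c117036c0d54347fff02501dd019025c077406300440df03680d44247fff0188120018411501800d7017c01103640d34147fff024811c017805d017005b016805900440d22943fff00400d601600570158055015005301480910003fff01440500140050014005001400500140050))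
(Tr.node (nat_lit 1) (Tr.leaf (nat_lit 0x8973fff007022f06bc2af07bc2af09bc2ef04bc16f8773fff05b819e007026402781f308a01b5039c16e896ffff006c26d0db42ad06b422d0ab426d04b416d876ffff0cb02b3006c22908cc09e09d01f0039816c896bfff006832b10ac2ab09ac2eb04ac16b04ac16b876bfff0fa832800682e708a01f402781b8039016a8767fff01f4235006426c06d41b005e009e0384169675ffff01f036a005c09809a80e109b812604c0128675bfff01ec0d8005832a026013807c013404b81276757fff01e8178005412103e009804d416804b01266557fff01e40d501e01200054096036411a047c1256753fff01dc23000502ae08c00f5026013304a81246453fff01d819901d411f0464014025411c0580123694ffff004c2220d881a207881e205880a20588122674ffff0c841f4004c16603d012803cc09804a4121654ffff098015301d0165004c15a076c096068c120))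
(Tr.leaf (nat_lit 0xa9d3fff00d03bf0afc43f0dfc43f0dfc33f0bfc1bfa9cffff00cc2be05f827e0bf823e0df833e0ef81bea9a7fff00a433d05f437d0bf43bd10f42bd0bf41bd89a3fff00a03fc03f01bc0ef00bc0af01fc0df017c899ffff009c1bb03ec43b05ec43b0dec2fb06ec17b899bfff00983fa03e827a0ee81fa0be823a0de817a8997fff009423910e423907e41f905e41b906e41798797fff0fe0126009417402980e704a416a05cc1788993fff00904b703dc2b711dc33704dc2f710dc177898ffff008c2360bd837606d82b604d83360ad8176878ffff0ad41e9008c17305a40a4039816e06d01758783fff01fc1a100801b802841aa08b00e707d4174877ffff01f826c007c1b507b01ae02840e406e0173897bfff00782f203c83f20ac83f210c82f204c81728977fff00742310fc41b107c41f107c423104c41718777fff0ec01e4007409e0790169069c1ac03a0170))))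

noncomputable def T : Tr := t0

def RT : List (List (List Nat)) := [
  [[nat_lit 11],
   [nat_lit 9, nat_lit 0, nat_lit 9],
   [nat_lit 1, nat_lit 0, nat_lit 1],
   [nat_lit 2, nat_lit 0, nat_lit 2],
   [nat_lit 3, nat_lit 0, nat_lit 3],
   [nat_lit 4, nat_lit 0, nat_lit 4],
   [nat_lit 5, nat_lit 0, nat_lit 5],
   [nat_lit 6, nat_lit 0, nat_lit 6],
   [nat_lit 7, nat_lit 0, nat_lit 7]],
  [[nat_lit 2, nat_lit 1, nat_lit 2],
   [nat_lit 3, nat_lit 1, nat_lit 3],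
   [nat_lit 4, nat_lit 1, nat_lit 4],
   [nat_lit 5, nat_lit 1, nat_lit 5],
   [nat_lit 6, nat_lit 1, nat_lit 6],
   [nat_lit 7, nat_lit 1, nat_lit 7],
   [nat_lit 11],
   [nat_lit 9, nat_lit 1, nat_lit 9, nat_lit 1, nat_lit 9],
   [nat_lit 9, nat_lit 2, nat_lit 1, nat_lit 9, nat_lit 1, nat_lit 2, nat_lit 9, nat_lit 2],
   [nat_lit 3, nat_lit 5, nat_lit 6, nat_lit 9, nat_lit 1, nat_lit 6, nat_lit 5, nat_lit 3, nat_lit 9]],
  [[nat_lit 3, nat_lit 2, nat_lit 3],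
   [nat_lit 5, nat_lit 2, nat_lit 5],
   [nat_lit 7, nat_lit 2, nat_lit 7],
   [nat_lit 11],
   [nat_lit 9, nat_lit 2, nat_lit 9, nat_lit 2, nat_lit 9, nat_lit 2, nat_lit 9],
   [nat_lit 9, nat_lit 3, nat_lit 2, nat_lit 9, nat_lit 2, nat_lit 3, nat_lit 9, nat_lit 3],
   [nat_lit 3, nat_lit 4, nat_lit 9, nat_lit 5, nat_lit 9, nat_lit 5, nat_lit 9, nat_lit 0, nat_lit 1],
   [nat_lit 4, nat_lit 2, nat_lit 4],
   [nat_lit 9, nat_lit 6, nat_lit 7, nat_lit 9, nat_lit 4, nat_lit 9, nat_lit 7, nat_lit 6, nat_lit 9, nat_lit 7],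
   [nat_lit 4, nat_lit 6, nat_lit 9, nat_lit 6, nat_lit 4, nat_lit 2, nat_lit 9],
   [nat_lit 1, nat_lit 9, nat_lit 2, nat_lit 1, nat_lit 9, nat_lit 1, nat_lit 2, nat_lit 9]],
  [[nat_lit 4, nat_lit 3, nat_lit 4],
   [nat_lit 7, nat_lit 3, nat_lit 7],
   [nat_lit 9, nat_lit 3, nat_lit 0, nat_lit 9, nat_lit 3, nat_lit 9],
   [nat_lit 11],
   [nat_lit 4, nat_lit 9, nat_lit 5, nat_lit 9, nat_lit 5, nat_lit 9, nat_lit 0, nat_lit 1, nat_lit 2],
   [nat_lit 1, nat_lit 3, nat_lit 1],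
   [nat_lit 9, nat_lit 3, nat_lit 9, nat_lit 0, nat_lit 3, nat_lit 9],
   [nat_lit 2, nat_lit 9, nat_lit 3, nat_lit 2, nat_lit 9, nat_lit 2, nat_lit 3, nat_lit 9]],
  [[nat_lit 5, nat_lit 4, nat_lit 5],
   [nat_lit 7, nat_lit 4, nat_lit 7],
   [nat_lit 11],
   [nat_lit 2, nat_lit 4, nat_lit 2],
   [nat_lit 6, nat_lit 9, nat_lit 6, nat_lit 4, nat_lit 2, nat_lit 9, nat_lit 2],
   [nat_lit 1, nat_lit 4, nat_lit 1],
   [nat_lit 3, nat_lit 2, nat_lit 1, nat_lit 0, nat_lit 9, nat_lit 5, nat_lit 9, nat_lit 5, nat_lit 9],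
   [nat_lit 9, nat_lit 4, nat_lit 9, nat_lit 0, nat_lit 1, nat_lit 3, nat_lit 4, nat_lit 5, nat_lit 6, nat_lit 9],
   [nat_lit 9, nat_lit 6, nat_lit 5, nat_lit 4, nat_lit 3, nat_lit 1, nat_lit 0, nat_lit 9, nat_lit 4, nat_lit 9],
   [nat_lit 9, nat_lit 0, nat_lit 1, nat_lit 3, nat_lit 4, nat_lit 5, nat_lit 6, nat_lit 9, nat_lit 4, nat_lit 9],
   [nat_lit 9, nat_lit 4, nat_lit 9, nat_lit 6, nat_lit 5, nat_lit 4, nat_lit 3, nat_lit 1, nat_lit 0, nat_lit 9],
   [nat_lit 9, nat_lit 7, nat_lit 6, nat_lit 9, nat_lit 2, nat_lit 7, nat_lit 9, nat_lit 6, nat_lit 7, nat_lit 9],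
   [nat_lit 2, nat_lit 9, nat_lit 6, nat_lit 9, nat_lit 6, nat_lit 9, nat_lit 8, nat_lit 5]],
  [[nat_lit 7, nat_lit 5, nat_lit 7],
   [nat_lit 11],
   [nat_lit 3, nat_lit 5, nat_lit 3],
   [nat_lit 1, nat_lit 5, nat_lit 1],
   [nat_lit 9, nat_lit 5, nat_lit 9, nat_lit 0, nat_lit 1, nat_lit 2, nat_lit 3, nat_lit 4, nat_lit 9],
   [nat_lit 9, nat_lit 4, nat_lit 3, nat_lit 2, nat_lit 1, nat_lit 0, nat_lit 9, nat_lit 5, nat_lit 9],
   [nat_lit 4, nat_lit 5, nat_lit 4],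
   [nat_lit 9, nat_lit 5, nat_lit 8, nat_lit 9, nat_lit 8],
   [nat_lit 3, nat_lit 9, nat_lit 1, nat_lit 3, nat_lit 5, nat_lit 6, nat_lit 9, nat_lit 1, nat_lit 6]],
  [[nat_lit 7, nat_lit 6, nat_lit 7],
   [nat_lit 11],
   [nat_lit 4, nat_lit 6, nat_lit 4],
   [nat_lit 3, nat_lit 6, nat_lit 3],
   [nat_lit 5, nat_lit 6, nat_lit 5],
   [nat_lit 9, nat_lit 6, nat_lit 4, nat_lit 2, nat_lit 9, nat_lit 2, nat_lit 4],
   [nat_lit 7, nat_lit 9, nat_lit 4, nat_lit 9, nat_lit 7, nat_lit 6, nat_lit 9, nat_lit 7, nat_lit 2, nat_lit 9],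
   [nat_lit 9, nat_lit 2, nat_lit 4, nat_lit 5, nat_lit 8, nat_lit 9, nat_lit 6, nat_lit 9],
   [nat_lit 9, nat_lit 8, nat_lit 5, nat_lit 4, nat_lit 2, nat_lit 9, nat_lit 6, nat_lit 9],
   [nat_lit 4, nat_lit 2, nat_lit 9, nat_lit 2, nat_lit 4, nat_lit 6, nat_lit 9],
   [nat_lit 9, nat_lit 6, nat_lit 9, nat_lit 2, nat_lit 4, nat_lit 5, nat_lit 8, nat_lit 9],
   [nat_lit 9, nat_lit 6, nat_lit 9, nat_lit 8, nat_lit 5, nat_lit 4, nat_lit 2, nat_lit 9]],
  [[nat_lit 9, nat_lit 7, nat_lit 9, nat_lit 7, nat_lit 9],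
   [nat_lit 11]],
  [[nat_lit 7, nat_lit 6, nat_lit 9, nat_lit 1, nat_lit 3, nat_lit 7, nat_lit 9, nat_lit 7, nat_lit 3, nat_lit 1, nat_lit 9],
   [nat_lit 11],
   [nat_lit 5, nat_lit 9, nat_lit 5, nat_lit 8, nat_lit 9],
   [nat_lit 1, nat_lit 8, nat_lit 1],
   [nat_lit 2, nat_lit 8, nat_lit 2],
   [nat_lit 3, nat_lit 8, nat_lit 3],
   [nat_lit 4, nat_lit 8, nat_lit 4],
   [nat_lit 6, nat_lit 8, nat_lit 6],
   [nat_lit 7, nat_lit 8, nat_lit 7],
   [nat_lit 5, nat_lit 9, nat_lit 8, nat_lit 5, nat_lit 9]],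
  [[nat_lit 1, nat_lit 9, nat_lit 1, nat_lit 9, nat_lit 1],
   [nat_lit 2, nat_lit 1, nat_lit 9, nat_lit 1, nat_lit 2, nat_lit 9, nat_lit 2, nat_lit 1],
   [nat_lit 3, nat_lit 9, nat_lit 0, nat_lit 3, nat_lit 9, nat_lit 3],
   [nat_lit 3, nat_lit 2, nat_lit 9, nat_lit 2, nat_lit 3, nat_lit 9, nat_lit 3, nat_lit 2],
   [nat_lit 5, nat_lit 9, nat_lit 0, nat_lit 1, nat_lit 2, nat_lit 3, nat_lit 4, nat_lit 9, nat_lit 5],
   [nat_lit 4, nat_lit 9, nat_lit 0, nat_lit 1, nat_lit 3, nat_lit 4, nat_lit 5, nat_lit 6, nat_lit 9, nat_lit 4],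
   [nat_lit 7, nat_lit 9, nat_lit 7, nat_lit 9, nat_lit 7],
   [nat_lit 7, nat_lit 5, nat_lit 1, nat_lit 9, nat_lit 1, nat_lit 5, nat_lit 7, nat_lit 9, nat_lit 7, nat_lit 5, nat_lit 1],
   [nat_lit 6, nat_lit 9, nat_lit 2, nat_lit 4, nat_lit 5, nat_lit 8, nat_lit 9, nat_lit 6],
   [nat_lit 8, nat_lit 5, nat_lit 4, nat_lit 2, nat_lit 9, nat_lit 6, nat_lit 9, nat_lit 6],
   [nat_lit 6, nat_lit 9, nat_lit 6, nat_lit 9, nat_lit 2, nat_lit 4, nat_lit 5, nat_lit 8],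
   [nat_lit 4, nat_lit 3, nat_lit 2, nat_lit 1, nat_lit 0, nat_lit 9, nat_lit 5, nat_lit 9, nat_lit 5],
   [nat_lit 2, nat_lit 1, nat_lit 9, nat_lit 2, nat_lit 1, nat_lit 9, nat_lit 1, nat_lit 2]],
  []]

def HT : List (List (Nat × Nat × Nat)) := [
  [(2, 0, 0), (0, 46, 1), (0, 10, 1), (0, 11, 1), (0, 13, 1), (0, 16, 1), (0, 20, 1), (0, 25, 1), (0, 31, 1)],
  [(0, 12, 1), (0, 14, 1), (0, 17, 1), (0, 21, 1), (0, 26, 1), (0, 32, 1), (2, 1, 0), (0, 48, 1), (1, 54, 6), (0, 56, 1)],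
  [(0, 15, 1), (0, 22, 1), (0, 33, 1), (2, 2, 0), (0, 52, 1), (1, 55, 6), (0, 57, 3), (0, 18, 1), (1, 59, 0), (0, 51, 1), (1, 54, 5)],
  [(0, 19, 1), (0, 34, 1), (1, 50, 4), (2, 3, 0), (0, 57, 4), (0, 14, 0), (0, 50, 4), (1, 55, 5)],
  [(0, 24, 1), (0, 35, 1), (2, 4, 0), (0, 18, 0), (0, 51, 2), (0, 17, 0), (1, 57, 6), (0, 58, 8), (1, 58, 4), (0, 58, 10), (1, 58, 2), (0, 59, 7), (1, 53, 8)],
  [(0, 36, 1), (2, 5, 0), (0, 23, 0), (0, 21, 0), (0, 57, 7), (1, 57, 4), (0, 24, 0), (0, 62, 5), (0, 56, 8)],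
  [(0, 37, 1), (2, 6, 0), (0, 29, 0), (0, 28, 0), (0, 30, 0), (0, 51, 3), (1, 59, 2), (0, 53, 8), (1, 53, 4), (0, 51, 5), (0, 53, 6), (1, 53, 2)],
  [(0, 49, 1), (2, 7, 0)],
  [(1, 60, 2), (2, 8, 0), (0, 62, 4), (0, 39, 0), (0, 40, 0), (0, 41, 0), (0, 42, 0), (0, 44, 0), (0, 45, 0), (1, 47, 2)],
  [(0, 48, 0), (1, 54, 7), (0, 50, 5), (1, 55, 7), (0, 57, 8), (0, 58, 9), (0, 49, 0), (1, 61, 9), (0, 53, 7), (1, 53, 5), (0, 53, 5), (1, 57, 5), (1, 54, 4)],
  []]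

def R : List (List Nat) :=
  [[0, 0],
   [1, 1],
   [2, 2],
   [3, 3],
   [4, 4],
   [5, 5],
   [6, 6],
   [7, 7],
   [8, 8],
   [9, 9],
   [0, 1, 0, 1],
   [0, 2, 0, 2],
   [1, 2, 1, 2],
   [0, 3, 0, 3],
   [1, 3, 1, 3],
   [2, 3, 2, 3],
   [0, 4, 0, 4],
   [1, 4, 1, 4],
   [2, 4, 2, 4],
   [3, 4, 3, 4],
   [0, 5, 0, 5],
   [1, 5, 1, 5],
   [2, 5, 2, 5],
   [3, 5, 3, 5],
   [4, 5, 4, 5],
   [0, 6, 0, 6],
   [1, 6, 1, 6],
   [2, 6, 2, 6],
   [3, 6, 3, 6],
   [4, 6, 4, 6],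
   [5, 6, 5, 6],
   [0, 7, 0, 7],
   [1, 7, 1, 7],
   [2, 7, 2, 7],
   [3, 7, 3, 7],
   [4, 7, 4, 7],
   [5, 7, 5, 7],
   [6, 7, 6, 7],
   [0, 8, 0, 8],
   [1, 8, 1, 8],
   [2, 8, 2, 8],
   [3, 8, 3, 8],
   [4, 8, 4, 8],
   [5, 8, 5, 8],
   [6, 8, 6, 8],
   [7, 8, 7, 8],
   [0, 9, 0, 9],
   [5, 8, 9, 5, 8, 9],
   [1, 9, 1, 9, 1, 9],
   [7, 9, 7, 9, 7, 9],
   [0, 3, 9, 3, 9, 3, 9],
   [2, 4, 6, 9, 6, 4, 2, 9],
   [2, 9, 2, 9, 2, 9, 2, 9],
   [2, 4, 5, 8, 9, 6, 9, 6, 9],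
   [1, 2, 9, 1, 2, 9, 2, 1, 9],
   [2, 3, 9, 2, 3, 9, 3, 2, 9],
   [1, 3, 5, 6, 9, 1, 6, 5, 3, 9],
   [0, 1, 2, 3, 4, 9, 5, 9, 5, 9],
   [0, 1, 3, 4, 5, 6, 9, 4, 9, 4, 9],
   [2, 7, 9, 6, 7, 9, 4, 9, 7, 6, 9],
   [1, 3, 7, 9, 7, 3, 1, 9, 6, 7, 8, 9],
   [1, 5, 7, 9, 1, 5, 7, 9, 7, 5, 1, 9],
   [5, 8, 9, 8, 5, 9]]

def W : List (List Nat) := [[0],
   [1],
   [2],
   [3],
   [4],
   [5],
   [6],
   [7],
   [8]]

noncomputable def P : Par := ⟨T, (nat_lit 4), (nat_lit 15), (nat_lit 168), (nat_lit 14), (nat_lit 16383), (nat_lit 6), (nat_lit 63), (nat_lit 10), (nat_lit 64), (nat_lit 64), (nat_lit 0x5a928398a418820), RT⟩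

noncomputable def J0 : List Nat := [
  nat_lit 0x10c40016c40013c40013c40012c40011c40011c40011c40011c4013000000008414840000014815084000018016008400001017000841001c1800008581181909060842681a000000842015284001000c1630842000001740085402001850208540001969278841c01a70000084001602854000141,
  nat_lit 0x8037584002c1a0400008408139646ac2b841728285141801a00300084001832628582001a00030284001a00002086801a04030284001a74000084001a70302286b8139746792b841a700302843413964b6b24841a70302286a4139b497a2b841,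
  nat_lit 0xa7433228688139b8a69248413964e7a2b841a04332086801a04332086801a74332286b013964c7b2484139a46a92b841a743322868813968877248413964aab2b84139c9e7a248413ab4dad2b8413aa467a2b8413b69a98228413964e7a24841]

theorem c0 : chk T (nat_lit 4) (nat_lit 15) (nat_lit 168) (nat_lit 14) (nat_lit 16383) (nat_lit 6) (nat_lit 63) (nat_lit 10) (nat_lit 64) (nat_lit 64) (nat_lit 0x5a928398a418820) (nat_lit 4) (nat_lit 15) RT (nat_lit 16) J0 (nat_lit 16) = true := by
  decide +kernel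

theorem r0 : P.RowsOK 16 64 := chk_sound P _ _ _ J0 _ _ (by decide +kernel) c0

theorem index.{u} : IndexLe.{u} 10 R W 48 :=
  indexLe_of_cert P HT (by decide +kernel)
    (show P.RowsOK 16 64 from r0)

end Tk2

theorem upK_2 : CardLe (genW s [[0], [1], [2], [3], [4], [5], [6], [7], [8], [9]]) 24576 :=
  CardLe.tc (V' := [[0], [1], [2], [3], [4], [5], [6], [7], [8]]) (n := 48) (m := 512) [0, 1, 2, 3, 4, 5, 6, 7, 8, 9] Tk2.index pres.sat (by decide +kernel) (by decide +kernel) (by decide +kernel) upK_3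

namespace Tk1

noncomputable def t0 : Tr := (Tr.leaf (nat_lit 0x1fffffffffffffffffffffffffffffffffffc007fffffffffffffffffffffffffffffffffff001fffffffffffffffffffffffffffffffffffc007fffffffffffffffffffffffffffffffffff001fffffffffffffffffffffffffffffffffffc007fffffffffffffffffffffffffffffffffff001fffffffffffffffffffffffffffffffffffc007fffffffffffffffffffffffffffffffffff001fffffffffffffffffffffffffffffffffffc007fffffffffffffffffffffffffffffffffff001fffffffffffffffffffffffffffffffffffc007fffffffffffffffffffffffffffffffffff001fffffffffffffffffffffffffffffffffffeb87ff0a2040490921e43c8291121e41c8990b2aa1ffc080721a2144288511a23c4688b1222144007ff0640c4180300600c0180300600c018030))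

noncomputable def T : Tr := t0

def RT : List (List (List Nat)) := [
  [[nat_lit 13],
   [nat_lit 11, nat_lit 1, nat_lit 2, nat_lit 3, nat_lit 4, nat_lit 5, nat_lit 10],
   [nat_lit 9, nat_lit 10, nat_lit 3, nat_lit 0, nat_lit 2, nat_lit 11]],
  [[nat_lit 13],
   [nat_lit 2, nat_lit 3, nat_lit 4, nat_lit 5, nat_lit 10, nat_lit 0, nat_lit 11]],
  [[nat_lit 13],
   [nat_lit 10, nat_lit 9, nat_lit 5, nat_lit 9, nat_lit 11, nat_lit 5],
   [nat_lit 8, nat_lit 10, nat_lit 5, nat_lit 9, nat_lit 8, nat_lit 11]],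
  [[nat_lit 13],
   [nat_lit 0, nat_lit 2, nat_lit 11, nat_lit 0, nat_lit 9, nat_lit 10],
   [nat_lit 0, nat_lit 9, nat_lit 11, nat_lit 5, nat_lit 10, nat_lit 9]],
  [[nat_lit 13],
   [nat_lit 5, nat_lit 8, nat_lit 9, nat_lit 6, nat_lit 9, nat_lit 6, nat_lit 9, nat_lit 2],
   [nat_lit 2, nat_lit 9, nat_lit 6, nat_lit 9, nat_lit 6, nat_lit 9, nat_lit 8, nat_lit 5]],
  [[nat_lit 13],
   [nat_lit 10, nat_lit 3, nat_lit 9, nat_lit 3, nat_lit 11],
   [nat_lit 2, nat_lit 10, nat_lit 9, nat_lit 5, nat_lit 9, nat_lit 11]],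
  [[nat_lit 13],
   [nat_lit 11, nat_lit 0, nat_lit 7, nat_lit 9, nat_lit 5, nat_lit 9, nat_lit 7, nat_lit 10]],
  [[nat_lit 13],
   [nat_lit 11, nat_lit 7, nat_lit 9, nat_lit 6, nat_lit 2, nat_lit 9, nat_lit 7, nat_lit 10]],
  [[nat_lit 13],
   [nat_lit 10, nat_lit 5, nat_lit 9, nat_lit 8, nat_lit 11, nat_lit 2],
   [nat_lit 11, nat_lit 3, nat_lit 9, nat_lit 8, nat_lit 9, nat_lit 3, nat_lit 10]],
  [[nat_lit 13],
   [nat_lit 2, nat_lit 10, nat_lit 5, nat_lit 2, nat_lit 11, nat_lit 2]],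
  [],
  [[nat_lit 10, nat_lit 10]],
  []]

def HT : List (List (Nat × Nat × Nat)) := [
  [(2, 0, 0), (0, 70, 1), (0, 75, 4)],
  [(2, 1, 0), (0, 70, 3)],
  [(2, 2, 0), (1, 66, 0), (0, 69, 1)],
  [(2, 3, 0), (0, 75, 0), (1, 76, 6)],
  [(2, 4, 0), (0, 55, 2), (1, 55, 8)],
  [(2, 5, 0), (0, 65, 5), (1, 66, 6)],
  [(2, 6, 0), (0, 72, 8)],
  [(2, 7, 0), (1, 73, 4)],
  [(2, 8, 0), (0, 69, 2), (0, 71, 7)],
  [(2, 9, 0), (1, 67, 3)],
  [],
  [(0, 64, 0)],
  []]

def R : List (List Nat) :=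
  [[0, 0],
   [1, 1],
   [2, 2],
   [3, 3],
   [4, 4],
   [5, 5],
   [6, 6],
   [7, 7],
   [8, 8],
   [9, 9],
   [10, 11],
   [11, 10],
   [0, 1, 0, 1],
   [0, 2, 0, 2],
   [1, 2, 1, 2],
   [0, 3, 0, 3],
   [1, 3, 1, 3],
   [2, 3, 2, 3],
   [0, 4, 0, 4],
   [1, 4, 1, 4],
   [2, 4, 2, 4],
   [3, 4, 3, 4],
   [0, 5, 0, 5],
   [1, 5, 1, 5],
   [2, 5, 2, 5],
   [3, 5, 3, 5],
   [4, 5, 4, 5],
   [0, 6, 0, 6],
   [1, 6, 1, 6],
   [2, 6, 2, 6],
   [3, 6, 3, 6],
   [4, 6, 4, 6],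
   [5, 6, 5, 6],
   [0, 7, 0, 7],
   [1, 7, 1, 7],
   [2, 7, 2, 7],
   [3, 7, 3, 7],
   [4, 7, 4, 7],
   [5, 7, 5, 7],
   [6, 7, 6, 7],
   [0, 8, 0, 8],
   [1, 8, 1, 8],
   [2, 8, 2, 8],
   [3, 8, 3, 8],
   [4, 8, 4, 8],
   [5, 8, 5, 8],
   [6, 8, 6, 8],
   [7, 8, 7, 8],
   [0, 9, 0, 9],
   [5, 8, 9, 5, 8, 9],
   [1, 9, 1, 9, 1, 9],
   [7, 9, 7, 9, 7, 9],
   [0, 3, 9, 3, 9, 3, 9],
   [2, 4, 6, 9, 6, 4, 2, 9],
   [2, 9, 2, 9, 2, 9, 2, 9],
   [2, 4, 5, 8, 9, 6, 9, 6, 9],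
   [1, 2, 9, 1, 2, 9, 2, 1, 9],
   [2, 3, 9, 2, 3, 9, 3, 2, 9],
   [1, 3, 5, 6, 9, 1, 6, 5, 3, 9],
   [0, 1, 2, 3, 4, 9, 5, 9, 5, 9],
   [0, 1, 3, 4, 5, 6, 9, 4, 9, 4, 9],
   [2, 7, 9, 6, 7, 9, 4, 9, 7, 6, 9],
   [1, 3, 7, 9, 7, 3, 1, 9, 6, 7, 8, 9],
   [1, 5, 7, 9, 1, 5, 7, 9, 7, 5, 1, 9],
   [10, 10, 10],
   [3, 9, 3, 11, 5, 10],
   [2, 5, 10, 9, 5, 9, 11],
   [2, 5, 11, 2, 9, 2, 10],
   [0, 2, 3, 11, 0, 9, 10],
   [2, 8, 10, 5, 9, 8, 11],
   [0, 11, 1, 2, 3, 4, 5, 10],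
   [3, 9, 8, 9, 3, 10, 8, 11],
   [0, 7, 9, 5, 9, 7, 10, 6, 11],
   [2, 6, 9, 7, 10, 7, 11, 7, 9],
   [5, 8, 9, 8, 5, 9],
   [0, 2, 11, 0, 9, 10, 3],
   [0, 3, 9, 11, 5, 10, 9]]

def W : List (List Nat) := [[0],
   [1],
   [2],
   [3],
   [4],
   [5],
   [6],
   [7],
   [8],
   [9]]

noncomputable def P : Par := ⟨T, (nat_lit 4), (nat_lit 15), (nat_lit 154), (nat_lit 11), (nat_lit 2047), (nat_lit 5), (nat_lit 31), (nat_lit 12), (nat_lit 19), (nat_lit 32), (nat_lit 0x1ac52d28398a418820), RT⟩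

noncomputable def J0 : List Nat := [
  nat_lit 0x1190004640011900046400119000464001190004640011900046400b71b8dc62218dc8db6e2821084210842108421084210842108421084210842108421084210842108421084210842108421084210842108421084210842108421084210842108421084210842108421084210842108421084210842108421084210842108421084210842108421084210842108421]

theorem c0 : chk T (nat_lit 4) (nat_lit 15) (nat_lit 154) (nat_lit 11) (nat_lit 2047) (nat_lit 5) (nat_lit 31) (nat_lit 12) (nat_lit 19) (nat_lit 32) (nat_lit 0x1ac52d28398a418820) (nat_lit 3) (nat_lit 7) RT (nat_lit 16) J0 (nat_lit 16) = true := by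
  decide +kernel

theorem r0 : P.RowsOK 16 32 := chk_sound P _ _ _ J0 _ _ (by decide +kernel) c0

theorem index.{u} : IndexLe.{u} 12 R W 3 :=
  indexLe_of_cert P HT (by decide +kernel)
    (show P.RowsOK 16 32 from r0)

end Tk1

theorem upK_1 : CardLe (genW s [[0], [1], [2], [3], [4], [5], [6], [7], [8], [9], [10], [11]]) 73728 :=
  CardLe.tc (V' := [[0], [1], [2], [3], [4], [5], [6], [7], [8], [9]]) (n := 3) (m := 24576) [0, 1, 2, 3, 4, 5, 6, 7, 8, 9, 10, 11] Tk1.index pres.sat (by decide +kernel) (by decide +kernel) (by decide +kernel) upK_2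

namespace Tk0

noncomputable def t0 : Tr := (Tr.node (nat_lit 5) (Tr.node (nat_lit 2) (Tr.node (nat_lit 0) (Tr.leaf (nat_lit 0x6412ffff301f0160015f015e0e13155d1b4e0e300012072d04350d1a02166112ffff1f1e384c1a3c394410161b4e015d06150e1a05170520001202134b11ffff4948021c00110456015c355a015b015a015901580157385601564a11ffff01550011031d053701540153123301522625031c1a3b015101504911ffff014f014e014d0011021b0a24014c1b3d014b014a0149014803244811ffff101a18200d2207230011122113220e350f1e033803300e1f03234711ffff014703171e400922132100111723034116270337032f032803224611ffff0146014501440143172216230011034017280336032e032703214511ffff01421d40041906200f350141014000111138061e0213051403204411ffff013f013e013d013c111e15271628103800110335032d1023031f4311ffff0215013b013a0139013801370136051e013500110212062002144211ffff01340133013201310130012f012e0513012d05120011041703154111ffff012c012b012a01290f1f0128012704141123072003170011031e4011ffff02120126012501240123012201210120011f04140315011e00112c10ffff0010011d011c011b011a011901180117011601150114011301120000ffff0111021001100110011001100110011001100110011001100110))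
(Tr.node (nat_lit 1) (Tr.leaf (nat_lit 0x6714ffff01890188405b07501536001417380628154006220219074104376614ffff01871d671a2401861737163800140627174106210218074004366414ffff018501841368183a11201440154110230014061f0216103804356c13ffff00130183018201815b2c5a2c602c4e2c4f2c3a2c3b2c022c202c6b13ffff312b022a0013087c322b397c363d374c0180017f017e017d017c6a13ffff017b0013032b3b4e017a3779444501790178326d336e447044706913ffff49771b62017700132e532654214d0176017508290672017438446713ffff017301722a634570185d00131516072f16180862044102191b4e6613ffff017142661d393e641b4e14160013072e1519086104400218045d6b12ffff47500225001238451d5a335c01701a5c016f016e016d354535456a12ffff3f56001203261a38016c016b1160016a251c1c251d3e016901686912ffff11241b2e0167001204240b1b0166183a094a094b08480849021b6812ffff016517231823081a0012151816190f2d1013073004380f16021a6712ffff31220c1a1920081916180012121a0362185d072f04371b4e02196612ffff19213956016401631219111a001203611b4e072e0436035d02186512ffff3b201822171a0517122d0162016100120f300613041e05150217))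
(Tr.leaf (nat_lit 0x6c16ffff001601a401a301a2563f4c3f603f513f023f103f4d3f573f313f6b16ffff454b023d00161f4d27512b74334401a1263b1e3e1c2529541f4d6a16ffff1e3d0016033e1935133d1b3a352b1a1b469b44941d9c1d9d113a6916ffff4760191e394c001633582f6e41772f6e01a0305c3579115e045e6b15ffff4570023a00151d671d69019f3d642593273e1b3b191c206c1c676a15ffff019e0015033b192d033a1c3d387c19244694439b019d019c123d6915ffff019b1c27436600152f6e3758019a33580199305a357a073103316815ffff019801971c5e1b250015152e182f0f161017021a03230f2d03306715ffff1b371e8e1b31061c182e001514301a4e1261021903220762032f6615ffff3d36438f1f43455b142f13300015085d1462021803210761032e6415ffff0f35428c10501a3d0e17116112620d1a00150216031f0e30032d6c14ffff001401964c8101955d34613464344d345e34063407345d3404346b14ffff019402320014408f01930192111c2769276013333b64286a428f6a14ffff3d32001403330a620632105f2a881643047b019101904955105f6914ffff018f1c37018e0014018d0a8b018c018b396d4278426f083904396814ffff3130018a42701a680014123615370f1f10200623021a0f350438))))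
(Tr.node (nat_lit 3) (Tr.leaf (nat_lit 0x6c1bffff001b01b301b2024f5cb05fab01b101b001af4ca201ae54a3124f6b1bffff2d4e024d001b3a2a1a271a1e1a1f19371a211a4119621a221a286a1bffff3e86001b034e203e2d922b9322292f9f23671d4d1c6832a91e3e661bffff01ad383c371e0f66034c0d66001b362b4955399039913c7b0466641bffff463e28692b8b335a034b0b4a4955469b001b0824238a20880a4a631bffff475b2693456f4478034a0c4b299046940824001b2288238a0b4b621bffff49681c9d397f209303490b4837911b9c248a1f88001b07240948611bffff481d1b481a48037403480c493d7b1b9d2388208a0724001b0a496c19ffff001901ac58a201ab6047024765475a4760471c4733475f4732476c18ffff00184c854ca659465b465a4602465a465c463e463f465b461a466b18ffff4790024400183926437836aa432a01aa427a338d4399342634266a18ffff4a7f00180345381e326a01a9323e326c3b6432443160349337296918ffff01a81e36428f001817431763298e17323a7d337e347f398004636c17ffff001701a75e95588202425a42604202425f4220423d425d423c426717ffff01a6469a1f750f5f12610017162d0219162e1b4e0328062f04626617ffff01a51d191c1712611662132d00170218162f075d0327062e0461))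
(Tr.node (nat_lit 4) (Tr.leaf (nat_lit 0x8a1fffff01b5001f03600e41115f0f32278a19631291137b4b5511900f32891fffff487e1b381e97001f118b128d4484118d395735aa4459103c033c861effff2e5d417c3b8613751728161f001e073617220640066102210327681dffff485c43574378469b001d322643591b26405b313c138436aa36aa661dffff464a412f428844364359406f001d406f415c40a0428b43864386651dffff48af325a335a324b1c26341d3d6f001d40703139418c43784378641dffff45593c7d3d743b54445b4170425c4170001d3b77455e3a793a79631dffff4aae479b36513653323c36393fa032393877001d3986358b358b621dffff45574578445c057e1284418c438b418c385e3a86001d3ba03ba0601dffff3e2539643821031d37aa3a7844863a783979368b44a0371d001d6c1cffff001c035502554a514a554b904a4b4a804a4c4a664a5f4a324990681cffff30542c761c6a3c59001c252913933a64276c04542069283e37a9671cffff5fa7385218a935582f29001c13922c68276b04531b9f3f8f2e6a651cffff01b43aa93753426f3b6429682769001c276a045226932860286b611cffff2d513558469b4b55283e408f296a286027690451216c001c2c92601cffff46260f35418c062f32a92d6a428f296b2568045005672c92001c))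
(Tr.leaf (nat_lit 0x8426ffff01b9444a4393435242703f5b3e5a3f5b00263d9a4331427a427a8326ffff306e30912e922c762e392e3c3d992e3c3c9a0026322a318d2d8d8226ffff01b847a036aa3091418c34843f8d1b843831312a00263b993b998825ffff60b72a6c296c2a8d0025297529a1314426541d6c20511f3b1d768725ffff2d6b3b6b3a6b367a2675002514b6285026531d6b2a74267227528525ffff2f6a1b542b762f8b31442e502851002526521d6a1ea127332d538125ffff47a31e8b294b1d9c1e3b24722652263326511d691f54002523b68025ffff4a49122d158419301c762a521f722b5324501b681b4d24b600258a24ffff3c9100241c2e1c3b24b62aa118752274244d0667045021761b3b8624ffff4b66443941270e4c05660c4c0024397c2a9049553e7b3891034c8c23ffff002301b759af62b06365636565655a65646532653365636511658a21ffff478c00213a563d273c523c763c3b3b543c443c643c333ca13c758921ffff3c63292828720021186316432697185f337e397d3480387f03438720ffff56621d771a290b321540002011350222133607281a4e063703418620ffff3d613f613e611140114110350020022111370727055d063603408b1fffff463c025f001f257229a101b61225295128331d60304427521e72)))))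
(Tr.node (nat_lit 8) (Tr.node (nat_lit 6) (Tr.leaf (nat_lit 0x832bffff49443849379d379f337f368046943690377c002b334337633680822bffff495e3cb63b8d0457317e3b7d359c319132633243002b3a7c3b7d812bffff3a723b743b593da0337d3c7e3b9d397b394338633d7c002b3c7e802bffff40b33f86405d072b337c382b373a3866387f37803c7d3b7e002b8c2affff002a309f38793c99077b13913c483a7d0332145f3f663b4c1391882affff377a48943aa1356b002a38863d783a864145408c3439416f416f852affff3983397b389f34a93986362a42aa002a38563384343c39593959842affff4378445c4657434a42453b563e7a3956002a41313d9a425a425a8a29ffff482900291c6239843aa03a99403c3a9939583a591faa388438848529ffff2e762a6a2b542b6e1b683b642e9f002932a909762d9220671c6c8429ffff4a9d2041459a125d256b286c176733a900290975428f289f3b648129ffff3eba3c593a7d0248428f2a3e32a923672c9f0974296b002921938c28ffff002801bb01ba47b854734d7362734f735673557353734d732e738b28ffff3b7d276300282660269f256920682d92428f09720529256b1f608c27ffff00274bae5bab5aa35f715c7162715e715f713e715d715c712f718626ffff443b4130448a4428416f4059002640593f5a4099428d432a432a))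
(Tr.node (nat_lit 7) (Tr.leaf (nat_lit 0x8c31ffff003143434436413341744151415041b64172418f4175405341338a31ffff62b100311d3722971f8e229728431e88259d1e9c4594469b20978831ffff01c03a7e14b6296c0031115e3e6d105e3d8c32454170306e2c6e8631ffff486440504335109a406d4057003140573e8d3f7a405a099a059a8531ffff238b2a4b1f692e6a105e09314257003136843556415b345834588b30ffff01bf437000302288228a2288285f099725492148224b224a22888c2fffff002f49b95db049be55895d8960894b895f893289338955891c898b2fffff1188415b002f218a2188218a2b321f8e22482049214a214b238a8c2effff002e3ebc3dbe5caf55875d8761874a875e871a873f875d873e87892effff3d4d3a5d3e7c002e3879377a4356397a3baa39573858425b425b8c2dffff002d4ea64b464d854e8550855c8559855a8531853285518510858b2dffff3f801468002d3a771157356d435e1a6d378b3279125c377737778b2cffff38790282002c478354be598160b801be4ead41b34da801bd46838a2cffff3a82002c03835942569e53b55ebc589e5ea75bac4ba354ae4c82892cffff4aa14b344c96002c58ae58835fac5aae5b9601bc5bb04b9e2181842bffff3e84399c3c9038a13380357f469b4955002b367c33633843357f))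
(Tr.leaf (nat_lit 0x873bffff1a9f37792f7b367f2572003b2d762e4d2b741c9f1a5327752fa18c3affff003a57bf01c14d9e578257bd5dbf57824da249af56b94c811f9e823affff4975367f1b4922b6049d1c9c3a7d1a48248e1f97003a1c3d1c9c813affff429a1f903a801c69049c1d9d347e1a4925971d8e1c3d003a1d9d8c39ffff003945514658455c459b47944580454b453d443a4497458e42948639ffff439c447547410f8c3c993ea000393ea03b6e3c6f3c78088c048c8439ffff4699479946993b7b3d9a39773e6e397700393f7042453a6d3a6d8c38ffff00384bc04fbd4cba5398529863985298539811985198509832988b38ffff21971d5e0038238e2197218e2763088a269c209d439b4694218e8b34ffff4f964d810034509662b153ad61b062b15a814ea35bac56a24f968934ffff5daa5d425ea7003460b75fa763c060b75cb55ca85bb35cbb05958c33ffff003346a1477a48aa4694469b457f454a453a453d448e4797439b8833ffff2c93446f274a1f4900332a4d1254243b28a114932552334420748733ffff3cbe2d6e2f912c902c4d003312532c722ab614922c762b502b518332ffff3b672e922f6e2f6d0791127b3649307e115f0032384c3766127b8232ffff46453b801e9c2d9207904a55284a357f2966384c0032105f4855))))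
(Tr.node (nat_lit 9) (Tr.leaf (nat_lit 0x844fffff475a58655bb75b875eac58b45eae5cac004f489e5fb14dbc13af824fffff49585aab4a715cae59814cbe5daf598160b123bf004f538213ae8c4cffff004c57c356b501c352bb549662a84cbb4d8349c04cb860b74aad8b47ffff5ea959a200475dac5daf5db85e815daf5db05c825a965dbf5bac8947ffff5fab5c715bae00475ea85e4f63bb5ea85eb45eb75dbe5ec033ab8545ffff5e95356d46a0479436563545417900453a86345e1e77355c355c8744ffff5fac1753395233793150004431743275317631a930b6314d36548c43ffff004363b101c24fa85fab5cb063ad5fab43b85d954c8349ba3da88b42ffff60535f95004260a760a2609560a35ca25f825fb05fbc62b15ea78c41ffff00414b464d8558a65aa65ba65ba64fa659a62ea658a656a657a68c40ffff00405cb457b858bd5aa55aa560a558a55ba52fa559a55aa53ea58b3fffff1fa402a3003f4ca456b34ebf5fbd4cb352ba4bbe5fb74cb84ca48a3fffff4669003f03a45b7155b952c061a749b956bc4d964a82554f48a3893fffff4ea059475aac003f5fa760b75fb95da74e9e4d4f4ebf559632a2853effff4b81397a4594378028602967286c003e27931fa11d6a3b642e9f843cffff4fa247aa486d3c7d39773d9a3e583d9a003c3f5b43563a573a57))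
(Tr.node (nat_lit 10) (Tr.leaf (nat_lit 0xac8affff008a59c1569e5dc25abc4da45c9e5abc53b922ae4da25cac24bfa583ffff3b923c873bbc488953834bae5eb400834fbb4aa45cab48b547bea183ffff50bd4e9851c059a553b5569e5ea449b55fb751b44aba008347bda381ffff4cbc3cbe3d873bbc59bf59b35d825bbf55a300815ea74caf22bcab73ffff3dbb02ba00734ebb51ad62b164ab4bad50be40ba41b45b9541bbaa73ffff3d74007303bb4d9850c050b961b74ac051a43fbb4bbd4aa83fbaac6fffff006f5cb048894ab956a351ba5ea248a354bf5fb1559e56b043b9ac6dffff006d56a547b4467353b45cac61834db442a832b54bad4ba43fb8ab65ffff616c5aaf00655fb75f9561a262ba5f9560bd5dab5ea45fad5fb7a760ffff30b6138d3b7e219d23670060136b408f29921eb62fa923682269ac5fffff005f55ad50c354b552bd52825fb34abd5b9533b840c049be3eb58c52ffff005248b85ba553b452b857af5fbe4eb85dab52bd42bb53b32eb48b4fffff3f7c02b2004f59c155a45abc5eb54ba44fc042835a9554b441b38a4fffff40b2004f03b360b15db263b265b248b264b21eb25cb263b25db2864fffff618e65c264a861b2619661bb004f61965fae60b95eaf61a713b1854fffff1fb05e895db961655b4f5ba86096004f5cac5ea75a8157b913b0))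
(Tr.leaf (nat_lit 0xffffffffffffffffffffffffffffffffffffffffffffffffffffffff0000ffffffffffffffffffffffffffffffffffffffffffffffffffffffff0000ffffffffffffffffffffffffffffffffffffffffffffffffffffffff0000ffffffffffffffffffffffffffffffffffffffffffffffffffffffff0000ffffffffffffffffffffffffffffffffffffffffffffffffffffffff0000ffffffffffffffffffffffffffffffffffffffffffffffffffffffff0000ffffffffffffffffffffffffffffffffffffffffffffffffffffffff0000ffffffffffffffffffffffffffffffffffffffffffffffffffffffff0000ffffffffffffffffffffffffffffffffffffffffffffffffffffffff0000ffffffffffffffffffffffffffffffffffffffffffffffffffffffff0000ffffffffffffffffffffffffffffffffffffffffffffffffffffffff0000ffffffffffffffffffffffffffffffffffffffffffffffffffffffffa9adffff58c34fb556ad00ad10c355c364c353c362c351c354c361c34bc3aaa8ffff3ec200a864b15cbf5ec25ec267c25fc266c25fc260c25ec25ec2aa9effff03c1009e58bf58b35ac15bc160c15bc15dc11cc15cc15ac15ac1ac8dffff008d50bd4a9852c051ba51a3629549ba4eb348ad3fb55dab31c0))))))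

noncomputable def T : Tr := t0

def RT : List (List (List Nat)) := [
  [[nat_lit 1, nat_lit 0, nat_lit 1],
   [nat_lit 4, nat_lit 0, nat_lit 4],
   [nat_lit 5, nat_lit 0, nat_lit 5],
   [nat_lit 6, nat_lit 0, nat_lit 6],
   [nat_lit 7, nat_lit 0, nat_lit 7],
   [nat_lit 8, nat_lit 0, nat_lit 8],
   [nat_lit 9, nat_lit 0, nat_lit 9],
   [nat_lit 14],
   [nat_lit 3, nat_lit 12, nat_lit 3, nat_lit 2, nat_lit 0, nat_lit 12, nat_lit 2],
   [nat_lit 12, nat_lit 0, nat_lit 12, nat_lit 0, nat_lit 12],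
   [nat_lit 11, nat_lit 5, nat_lit 4, nat_lit 3, nat_lit 2, nat_lit 1, nat_lit 10],
   [nat_lit 2, nat_lit 0, nat_lit 2],
   [nat_lit 3, nat_lit 11, nat_lit 9, nat_lit 0, nat_lit 10, nat_lit 2],
   [nat_lit 3, nat_lit 0, nat_lit 3],
   [nat_lit 11, nat_lit 9, nat_lit 0, nat_lit 10, nat_lit 3, nat_lit 2],
   [nat_lit 2, nat_lit 11, nat_lit 0, nat_lit 9, nat_lit 10, nat_lit 3],
   [nat_lit 2, nat_lit 3, nat_lit 11, nat_lit 0, nat_lit 9, nat_lit 10]],
  [[nat_lit 6, nat_lit 1, nat_lit 6],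
   [nat_lit 7, nat_lit 1, nat_lit 7],
   [nat_lit 14],
   [nat_lit 12, nat_lit 1, nat_lit 12, nat_lit 1, nat_lit 12, nat_lit 1, nat_lit 12],
   [nat_lit 2, nat_lit 1, nat_lit 2],
   [nat_lit 9, nat_lit 1, nat_lit 9, nat_lit 1, nat_lit 9],
   [nat_lit 2, nat_lit 3, nat_lit 4, nat_lit 5, nat_lit 10, nat_lit 0, nat_lit 11],
   [nat_lit 0, nat_lit 1, nat_lit 0],
   [nat_lit 3, nat_lit 1, nat_lit 3],
   [nat_lit 2, nat_lit 9, nat_lit 1, nat_lit 2, nat_lit 9, nat_lit 2, nat_lit 1, nat_lit 9],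
   [nat_lit 2, nat_lit 9, nat_lit 2, nat_lit 1, nat_lit 9, nat_lit 2, nat_lit 1, nat_lit 9],
   [nat_lit 5, nat_lit 1, nat_lit 5],
   [nat_lit 8, nat_lit 1, nat_lit 8],
   [nat_lit 4, nat_lit 1, nat_lit 4],
   [nat_lit 2, nat_lit 5, nat_lit 12, nat_lit 5, nat_lit 2, nat_lit 1, nat_lit 12]],
  [[nat_lit 4, nat_lit 2, nat_lit 4],
   [nat_lit 6, nat_lit 2, nat_lit 6],
   [nat_lit 7, nat_lit 2, nat_lit 7],
   [nat_lit 8, nat_lit 2, nat_lit 8],
   [nat_lit 14],
   [nat_lit 3, nat_lit 12, nat_lit 3, nat_lit 0, nat_lit 2, nat_lit 12, nat_lit 0],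
   [nat_lit 12, nat_lit 3, nat_lit 2, nat_lit 0, nat_lit 12, nat_lit 3, nat_lit 0],
   [nat_lit 5, nat_lit 12, nat_lit 5, nat_lit 2, nat_lit 1, nat_lit 12, nat_lit 1],
   [nat_lit 0, nat_lit 2, nat_lit 0],
   [nat_lit 11, nat_lit 0, nat_lit 9, nat_lit 10, nat_lit 3, nat_lit 0],
   [nat_lit 10, nat_lit 2, nat_lit 5, nat_lit 11, nat_lit 2, nat_lit 9],
   [nat_lit 1, nat_lit 9, nat_lit 2, nat_lit 1, nat_lit 9, nat_lit 1, nat_lit 2, nat_lit 9],
   [nat_lit 5, nat_lit 2, nat_lit 5],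
   [nat_lit 10, nat_lit 9, nat_lit 5, nat_lit 9, nat_lit 11, nat_lit 5],
   [nat_lit 5, nat_lit 10, nat_lit 9, nat_lit 5, nat_lit 9, nat_lit 11],
   [nat_lit 9, nat_lit 2, nat_lit 10, nat_lit 2, nat_lit 5, nat_lit 11],
   [nat_lit 1, nat_lit 2, nat_lit 1],
   [nat_lit 3, nat_lit 2, nat_lit 3],
   [nat_lit 0, nat_lit 3, nat_lit 11, nat_lit 9, nat_lit 0, nat_lit 10],
   [nat_lit 12, nat_lit 0, nat_lit 2, nat_lit 3, nat_lit 12, nat_lit 3, nat_lit 0],
   [nat_lit 0, nat_lit 12, nat_lit 3, nat_lit 0, nat_lit 2, nat_lit 12, nat_lit 3],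
   [nat_lit 0, nat_lit 3, nat_lit 12, nat_lit 0, nat_lit 2, nat_lit 3, nat_lit 12],
   [nat_lit 0, nat_lit 11, nat_lit 9, nat_lit 0, nat_lit 10, nat_lit 3],
   [nat_lit 10, nat_lit 5, nat_lit 2, nat_lit 11, nat_lit 2, nat_lit 9],
   [nat_lit 11, nat_lit 2, nat_lit 9, nat_lit 2, nat_lit 10, nat_lit 5],
   [nat_lit 0, nat_lit 3, nat_lit 12, nat_lit 3, nat_lit 2, nat_lit 0, nat_lit 12],
   [nat_lit 3, nat_lit 12, nat_lit 2, nat_lit 0, nat_lit 3, nat_lit 12, nat_lit 0],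
   [nat_lit 10, nat_lit 8, nat_lit 9, nat_lit 5, nat_lit 11, nat_lit 8]],
  [[nat_lit 4, nat_lit 3, nat_lit 4],
   [nat_lit 6, nat_lit 3, nat_lit 6],
   [nat_lit 7, nat_lit 3, nat_lit 7],
   [nat_lit 8, nat_lit 3, nat_lit 8],
   [nat_lit 14],
   [nat_lit 2, nat_lit 3, nat_lit 2],
   [nat_lit 12, nat_lit 3, nat_lit 12, nat_lit 3, nat_lit 12],
   [nat_lit 1, nat_lit 3, nat_lit 1],
   [nat_lit 5, nat_lit 3, nat_lit 5],
   [nat_lit 11, nat_lit 12, nat_lit 10, nat_lit 3, nat_lit 11, nat_lit 12, nat_lit 10],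
   [nat_lit 0, nat_lit 3, nat_lit 0],
   [nat_lit 9, nat_lit 3, nat_lit 0, nat_lit 9, nat_lit 3, nat_lit 9],
   [nat_lit 4, nat_lit 9, nat_lit 5, nat_lit 9, nat_lit 5, nat_lit 9, nat_lit 0, nat_lit 1, nat_lit 2],
   [nat_lit 11, nat_lit 5, nat_lit 10, nat_lit 3, nat_lit 9],
   [nat_lit 11, nat_lit 0, nat_lit 9, nat_lit 10, nat_lit 0, nat_lit 2],
   [nat_lit 2, nat_lit 0, nat_lit 11, nat_lit 9, nat_lit 0, nat_lit 10],
   [nat_lit 0, nat_lit 2, nat_lit 11, nat_lit 0, nat_lit 9, nat_lit 10],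
   [nat_lit 9, nat_lit 3, nat_lit 11, nat_lit 5, nat_lit 10],
   [nat_lit 4, nat_lit 5, nat_lit 10, nat_lit 0, nat_lit 11, nat_lit 1, nat_lit 2],
   [nat_lit 12, nat_lit 3, nat_lit 2, nat_lit 0, nat_lit 12, nat_lit 2, nat_lit 0],
   [nat_lit 2, nat_lit 0, nat_lit 12, nat_lit 2, nat_lit 0, nat_lit 3, nat_lit 12],
   [nat_lit 12, nat_lit 0, nat_lit 2, nat_lit 3, nat_lit 12, nat_lit 2, nat_lit 0],
   [nat_lit 0, nat_lit 9, nat_lit 11, nat_lit 5, nat_lit 10, nat_lit 9]],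
  [[nat_lit 14],
   [nat_lit 12, nat_lit 4, nat_lit 12, nat_lit 4, nat_lit 12, nat_lit 4, nat_lit 12],
   [nat_lit 5, nat_lit 4, nat_lit 5],
   [nat_lit 12, nat_lit 11, nat_lit 1, nat_lit 12, nat_lit 11, nat_lit 0, nat_lit 12, nat_lit 2, nat_lit 10],
   [nat_lit 3, nat_lit 2, nat_lit 1, nat_lit 0, nat_lit 9, nat_lit 5, nat_lit 9, nat_lit 5, nat_lit 9],
   [nat_lit 7, nat_lit 4, nat_lit 7],
   [nat_lit 6, nat_lit 4, nat_lit 6],
   [nat_lit 2, nat_lit 4, nat_lit 2],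
   [nat_lit 0, nat_lit 4, nat_lit 0],
   [nat_lit 1, nat_lit 4, nat_lit 1],
   [nat_lit 8, nat_lit 4, nat_lit 8],
   [nat_lit 6, nat_lit 9, nat_lit 6, nat_lit 4, nat_lit 2, nat_lit 9, nat_lit 2],
   [nat_lit 5, nat_lit 10, nat_lit 0, nat_lit 11, nat_lit 1, nat_lit 2, nat_lit 3],
   [nat_lit 3, nat_lit 4, nat_lit 3],
   [nat_lit 3, nat_lit 2, nat_lit 1, nat_lit 10, nat_lit 0, nat_lit 11, nat_lit 5]],
  [[nat_lit 6, nat_lit 5, nat_lit 6],
   [nat_lit 7, nat_lit 5, nat_lit 7],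
   [nat_lit 14],
   [nat_lit 12, nat_lit 5, nat_lit 12, nat_lit 5, nat_lit 12, nat_lit 5, nat_lit 12],
   [nat_lit 2, nat_lit 5, nat_lit 2],
   [nat_lit 10, nat_lit 3, nat_lit 9, nat_lit 3, nat_lit 11],
   [nat_lit 4, nat_lit 3, nat_lit 2, nat_lit 1, nat_lit 10, nat_lit 0, nat_lit 11],
   [nat_lit 0, nat_lit 5, nat_lit 0],
   [nat_lit 3, nat_lit 5, nat_lit 3],
   [nat_lit 8, nat_lit 9, nat_lit 8, nat_lit 5, nat_lit 9],
   [nat_lit 9, nat_lit 8, nat_lit 11, nat_lit 2, nat_lit 8, nat_lit 10],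
   [nat_lit 1, nat_lit 5, nat_lit 1],
   [nat_lit 10, nat_lit 9, nat_lit 5, nat_lit 9, nat_lit 11, nat_lit 2],
   [nat_lit 8, nat_lit 5, nat_lit 8],
   [nat_lit 4, nat_lit 5, nat_lit 4],
   [nat_lit 8, nat_lit 9, nat_lit 5, nat_lit 8, nat_lit 9],
   [nat_lit 10, nat_lit 9, nat_lit 3, nat_lit 0, nat_lit 9, nat_lit 11],
   [nat_lit 9, nat_lit 11, nat_lit 5, nat_lit 2, nat_lit 10, nat_lit 9],
   [nat_lit 9, nat_lit 8, nat_lit 5, nat_lit 9, nat_lit 8],
   [nat_lit 11, nat_lit 8, nat_lit 2, nat_lit 10, nat_lit 8, nat_lit 9]],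
  [[nat_lit 14],
   [nat_lit 12, nat_lit 6, nat_lit 12, nat_lit 6, nat_lit 12, nat_lit 6, nat_lit 12],
   [nat_lit 11, nat_lit 7, nat_lit 9, nat_lit 5, nat_lit 9, nat_lit 7, nat_lit 0, nat_lit 10],
   [nat_lit 7, nat_lit 6, nat_lit 7],
   [nat_lit 8, nat_lit 6, nat_lit 8],
   [nat_lit 9, nat_lit 7, nat_lit 10, nat_lit 7, nat_lit 11, nat_lit 7, nat_lit 9, nat_lit 2],
   [nat_lit 5, nat_lit 6, nat_lit 5],
   [nat_lit 0, nat_lit 6, nat_lit 0],
   [nat_lit 2, nat_lit 6, nat_lit 2],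
   [nat_lit 4, nat_lit 6, nat_lit 4],
   [nat_lit 9, nat_lit 6, nat_lit 4, nat_lit 2, nat_lit 9, nat_lit 2, nat_lit 4],
   [nat_lit 3, nat_lit 6, nat_lit 3],
   [nat_lit 1, nat_lit 6, nat_lit 1],
   [nat_lit 4, nat_lit 2, nat_lit 9, nat_lit 2, nat_lit 4, nat_lit 6, nat_lit 9]],
  [[nat_lit 14],
   [nat_lit 12, nat_lit 7, nat_lit 12, nat_lit 7, nat_lit 12, nat_lit 7, nat_lit 12],
   [nat_lit 9, nat_lit 7, nat_lit 9, nat_lit 7, nat_lit 9],
   [nat_lit 6, nat_lit 7, nat_lit 6],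
   [nat_lit 2, nat_lit 7, nat_lit 2],
   [nat_lit 4, nat_lit 7, nat_lit 4],
   [nat_lit 5, nat_lit 1, nat_lit 9, nat_lit 1, nat_lit 5, nat_lit 7, nat_lit 9, nat_lit 1, nat_lit 5, nat_lit 7, nat_lit 9],
   [nat_lit 6, nat_lit 9, nat_lit 1, nat_lit 3, nat_lit 7, nat_lit 9, nat_lit 7, nat_lit 3, nat_lit 1, nat_lit 9, nat_lit 8],
   [nat_lit 8, nat_lit 7, nat_lit 8],
   [nat_lit 1, nat_lit 7, nat_lit 1],
   [nat_lit 3, nat_lit 7, nat_lit 3],
   [nat_lit 5, nat_lit 7, nat_lit 5],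
   [nat_lit 0, nat_lit 7, nat_lit 0],
   [nat_lit 11, nat_lit 5, nat_lit 12, nat_lit 5, nat_lit 10, nat_lit 7, nat_lit 12],
   [nat_lit 12, nat_lit 7, nat_lit 11, nat_lit 5, nat_lit 12, nat_lit 5, nat_lit 10]],
  [[nat_lit 14],
   [nat_lit 12, nat_lit 5, nat_lit 12, nat_lit 5, nat_lit 8, nat_lit 12, nat_lit 5, nat_lit 12],
   [nat_lit 9, nat_lit 12, nat_lit 9, nat_lit 8, nat_lit 9, nat_lit 12, nat_lit 9],
   [nat_lit 0, nat_lit 8, nat_lit 0],
   [nat_lit 1, nat_lit 8, nat_lit 1],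
   [nat_lit 2, nat_lit 8, nat_lit 2],
   [nat_lit 3, nat_lit 8, nat_lit 3],
   [nat_lit 4, nat_lit 8, nat_lit 4],
   [nat_lit 6, nat_lit 8, nat_lit 6],
   [nat_lit 11, nat_lit 3, nat_lit 9, nat_lit 8, nat_lit 9, nat_lit 3, nat_lit 10],
   [nat_lit 5, nat_lit 8, nat_lit 5],
   [nat_lit 5, nat_lit 9, nat_lit 8, nat_lit 5, nat_lit 9],
   [nat_lit 10, nat_lit 5, nat_lit 9, nat_lit 8, nat_lit 11, nat_lit 2],
   [nat_lit 7, nat_lit 8, nat_lit 7],
   [nat_lit 9, nat_lit 5, nat_lit 8, nat_lit 9, nat_lit 5],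
   [nat_lit 11, nat_lit 2, nat_lit 8, nat_lit 10, nat_lit 5, nat_lit 9],
   [nat_lit 9, nat_lit 8, nat_lit 5, nat_lit 9, nat_lit 5],
   [nat_lit 5, nat_lit 9, nat_lit 5, nat_lit 8, nat_lit 9],
   [nat_lit 2, nat_lit 10, nat_lit 8, nat_lit 9, nat_lit 5, nat_lit 11]],
  [[nat_lit 1, nat_lit 9, nat_lit 1, nat_lit 9, nat_lit 1],
   [nat_lit 0, nat_lit 10, nat_lit 3, nat_lit 2, nat_lit 0, nat_lit 11],
   [nat_lit 0, nat_lit 10, nat_lit 2, nat_lit 0, nat_lit 3, nat_lit 11],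
   [nat_lit 2, nat_lit 10, nat_lit 2, nat_lit 5, nat_lit 11, nat_lit 2],
   [nat_lit 14],
   [nat_lit 12, nat_lit 9, nat_lit 12, nat_lit 9, nat_lit 12, nat_lit 9, nat_lit 12],
   [nat_lit 3, nat_lit 11, nat_lit 5, nat_lit 10, nat_lit 3],
   [nat_lit 0, nat_lit 9, nat_lit 0],
   [nat_lit 3, nat_lit 9, nat_lit 0, nat_lit 3, nat_lit 9, nat_lit 3],
   [nat_lit 11, nat_lit 5, nat_lit 2, nat_lit 10, nat_lit 9, nat_lit 5],
   [nat_lit 8, nat_lit 5, nat_lit 9, nat_lit 5, nat_lit 8],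
   [nat_lit 11, nat_lit 2, nat_lit 5, nat_lit 10, nat_lit 9, nat_lit 5],
   [nat_lit 6, nat_lit 4, nat_lit 2, nat_lit 9, nat_lit 2, nat_lit 4, nat_lit 6],
   [nat_lit 6, nat_lit 9, nat_lit 2, nat_lit 4, nat_lit 5, nat_lit 8, nat_lit 9, nat_lit 6],
   [nat_lit 4, nat_lit 9, nat_lit 4, nat_lit 9, nat_lit 0, nat_lit 1, nat_lit 3, nat_lit 4, nat_lit 5, nat_lit 6],
   [nat_lit 11, nat_lit 5, nat_lit 10, nat_lit 9, nat_lit 3, nat_lit 0],
   [nat_lit 5, nat_lit 11, nat_lit 8, nat_lit 2, nat_lit 10, nat_lit 8],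
   [nat_lit 8, nat_lit 11, nat_lit 2, nat_lit 8, nat_lit 10, nat_lit 5],
   [nat_lit 7, nat_lit 9, nat_lit 7, nat_lit 9, nat_lit 7],
   [nat_lit 8, nat_lit 5, nat_lit 9, nat_lit 8, nat_lit 5],
   [nat_lit 10, nat_lit 3, nat_lit 0, nat_lit 2, nat_lit 11, nat_lit 0],
   [nat_lit 3, nat_lit 0, nat_lit 9, nat_lit 11, nat_lit 5, nat_lit 10],
   [nat_lit 5, nat_lit 9, nat_lit 11, nat_lit 5, nat_lit 2, nat_lit 10],
   [nat_lit 2, nat_lit 10, nat_lit 5, nat_lit 2, nat_lit 11, nat_lit 2],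
   [nat_lit 12, nat_lit 9, nat_lit 8, nat_lit 9, nat_lit 12, nat_lit 9, nat_lit 8]],
  [[nat_lit 14],
   [nat_lit 12, nat_lit 11, nat_lit 12, nat_lit 10, nat_lit 12, nat_lit 10, nat_lit 12],
   [nat_lit 7, nat_lit 9, nat_lit 5, nat_lit 9, nat_lit 7, nat_lit 0, nat_lit 10, nat_lit 6],
   [nat_lit 5, nat_lit 10, nat_lit 3, nat_lit 9, nat_lit 3],
   [nat_lit 11, nat_lit 11],
   [nat_lit 8, nat_lit 2, nat_lit 10, nat_lit 8, nat_lit 9, nat_lit 5],
   [nat_lit 2, nat_lit 5, nat_lit 10, nat_lit 9, nat_lit 5, nat_lit 9],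
   [nat_lit 2, nat_lit 8, nat_lit 10, nat_lit 5, nat_lit 9, nat_lit 8],
   [nat_lit 2, nat_lit 9, nat_lit 2, nat_lit 10, nat_lit 5, nat_lit 2],
   [nat_lit 12, nat_lit 10, nat_lit 12, nat_lit 10, nat_lit 12, nat_lit 11, nat_lit 12],
   [nat_lit 9, nat_lit 0, nat_lit 10, nat_lit 3, nat_lit 2, nat_lit 0]],
  [[nat_lit 10, nat_lit 10],
   [nat_lit 7, nat_lit 12, nat_lit 7, nat_lit 11, nat_lit 5, nat_lit 12, nat_lit 5],
   [nat_lit 5, nat_lit 9, nat_lit 8, nat_lit 11, nat_lit 2, nat_lit 8],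
   [nat_lit 3, nat_lit 9, nat_lit 3, nat_lit 11, nat_lit 5],
   [nat_lit 0, nat_lit 11, nat_lit 1, nat_lit 2, nat_lit 3, nat_lit 4, nat_lit 5],
   [nat_lit 7, nat_lit 11, nat_lit 7, nat_lit 9, nat_lit 6, nat_lit 2, nat_lit 9, nat_lit 7],
   [nat_lit 6, nat_lit 11, nat_lit 0, nat_lit 7, nat_lit 9, nat_lit 5, nat_lit 9, nat_lit 7],
   [nat_lit 9, nat_lit 3, nat_lit 0, nat_lit 9, nat_lit 11, nat_lit 5],
   [nat_lit 9, nat_lit 0, nat_lit 3, nat_lit 9, nat_lit 11, nat_lit 5],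
   [nat_lit 8, nat_lit 9, nat_lit 5, nat_lit 11, nat_lit 8, nat_lit 2],
   [nat_lit 3, nat_lit 2, nat_lit 0, nat_lit 11, nat_lit 9, nat_lit 0],
   [nat_lit 2, nat_lit 0, nat_lit 3, nat_lit 11, nat_lit 9, nat_lit 0],
   [nat_lit 0, nat_lit 2, nat_lit 3, nat_lit 11, nat_lit 0, nat_lit 9],
   [nat_lit 12, nat_lit 10, nat_lit 12, nat_lit 11, nat_lit 12, nat_lit 11, nat_lit 12],
   [nat_lit 12, nat_lit 11, nat_lit 12, nat_lit 11, nat_lit 12, nat_lit 10, nat_lit 12],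
   [nat_lit 9, nat_lit 5, nat_lit 9, nat_lit 11, nat_lit 5, nat_lit 2],
   [nat_lit 3, nat_lit 11, nat_lit 12, nat_lit 10, nat_lit 3, nat_lit 11, nat_lit 12],
   [nat_lit 2, nat_lit 5, nat_lit 11, nat_lit 2, nat_lit 9, nat_lit 2],
   [nat_lit 3, nat_lit 0, nat_lit 2, nat_lit 11, nat_lit 0, nat_lit 9]],
  [[nat_lit 0, nat_lit 12, nat_lit 0, nat_lit 12, nat_lit 0],
   [nat_lit 3, nat_lit 12, nat_lit 3, nat_lit 12, nat_lit 3],
   [nat_lit 11, nat_lit 12, nat_lit 11, nat_lit 12, nat_lit 10, nat_lit 12, nat_lit 10],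
   [nat_lit 5, nat_lit 10, nat_lit 7, nat_lit 12, nat_lit 7, nat_lit 11, nat_lit 5],
   [nat_lit 8, nat_lit 12, nat_lit 5, nat_lit 12, nat_lit 8, nat_lit 5, nat_lit 12, nat_lit 5],
   [nat_lit 9, nat_lit 8, nat_lit 9, nat_lit 12, nat_lit 9, nat_lit 8, nat_lit 9],
   [nat_lit 10, nat_lit 3, nat_lit 11, nat_lit 12, nat_lit 10, nat_lit 3, nat_lit 11],
   [nat_lit 7, nat_lit 11, nat_lit 5, nat_lit 12, nat_lit 5, nat_lit 10, nat_lit 7],
   [nat_lit 1, nat_lit 2, nat_lit 5, nat_lit 12, nat_lit 5, nat_lit 2, nat_lit 1],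
   [nat_lit 5, nat_lit 12, nat_lit 5, nat_lit 12, nat_lit 5, nat_lit 12, nat_lit 5],
   [nat_lit 3, nat_lit 2, nat_lit 0, nat_lit 12, nat_lit 2, nat_lit 0, nat_lit 3],
   [nat_lit 5, nat_lit 2, nat_lit 1, nat_lit 12, nat_lit 1, nat_lit 2, nat_lit 5],
   [nat_lit 10, nat_lit 12, nat_lit 10, nat_lit 12, nat_lit 11, nat_lit 12, nat_lit 11],
   [nat_lit 11, nat_lit 12, nat_lit 10, nat_lit 12, nat_lit 10, nat_lit 12, nat_lit 11],
   [nat_lit 0, nat_lit 2, nat_lit 3, nat_lit 12, nat_lit 2, nat_lit 0, nat_lit 3],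
   [nat_lit 2, nat_lit 0, nat_lit 3, nat_lit 12, nat_lit 3, nat_lit 2, nat_lit 0],
   [nat_lit 3, nat_lit 0, nat_lit 2, nat_lit 12, nat_lit 0, nat_lit 2, nat_lit 3],
   [nat_lit 9, nat_lit 12, nat_lit 9, nat_lit 12, nat_lit 9, nat_lit 12, nat_lit 9],
   [nat_lit 10, nat_lit 12, nat_lit 11, nat_lit 12, nat_lit 11, nat_lit 12, nat_lit 10],
   [nat_lit 4, nat_lit 12, nat_lit 4, nat_lit 12, nat_lit 4, nat_lit 12, nat_lit 4],
   [nat_lit 1, nat_lit 12, nat_lit 1, nat_lit 12, nat_lit 1, nat_lit 12, nat_lit 1],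
   [nat_lit 0, nat_lit 2, nat_lit 3, nat_lit 12, nat_lit 3, nat_lit 0, nat_lit 2]],
  []]

def HT : List (List (Nat × Nat × Nat)) := [
  [(0, 13, 1), (0, 19, 1), (0, 23, 1), (0, 28, 1), (0, 34, 1), (0, 41, 1), (0, 49, 1), (2, 0, 0), (1, 95, 3), (0, 75, 1), (1, 71, 0), (0, 14, 1), (1, 92, 0), (0, 16, 1), (1, 69, 0), (0, 92, 1), (0, 69, 1)],
  [(0, 29, 1), (0, 35, 1), (2, 1, 0), (0, 83, 1), (0, 15, 1), (0, 51, 1), (0, 71, 3), (0, 13, 0), (0, 17, 1), (0, 57, 1), (1, 57, 2), (0, 24, 1), (0, 42, 1), (0, 20, 1), (0, 78, 1)],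
  [(0, 21, 1), (0, 30, 1), (0, 36, 1), (0, 43, 1), (2, 2, 0), (0, 95, 2), (1, 94, 4), (0, 78, 2), (0, 14, 0), (0, 92, 2), (0, 68, 6), (1, 57, 5), (0, 25, 1), (1, 67, 0), (0, 67, 1), (0, 68, 4), (0, 15, 0), (0, 18, 1), (1, 92, 6), (0, 95, 7), (1, 94, 7), (0, 94, 5), (1, 69, 6), (1, 68, 4), (1, 68, 0), (1, 95, 2), (0, 94, 2), (1, 70, 0)],
  [(0, 22, 1), (0, 31, 1), (0, 37, 1), (0, 44, 1), (2, 3, 0), (0, 18, 0), (0, 76, 1), (0, 17, 0), (0, 26, 1), (0, 82, 1), (0, 16, 0), (1, 53, 4), (0, 60, 4), (0, 66, 3), (0, 69, 3), (1, 69, 5), (0, 92, 0), (0, 66, 1), (0, 71, 5), (1, 95, 4), (1, 95, 6), (0, 94, 7), (1, 93, 6)],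
  [(2, 4, 0), (0, 84, 1), (0, 27, 1), (1, 91, 4), (1, 60, 6), (0, 38, 1), (0, 32, 1), (0, 21, 0), (0, 19, 0), (0, 20, 0), (0, 45, 1), (0, 54, 2), (0, 71, 6), (0, 22, 0), (1, 71, 3)],
  [(0, 33, 1), (0, 39, 1), (2, 5, 0), (0, 85, 1), (0, 25, 0), (0, 66, 5), (1, 71, 2), (0, 23, 0), (0, 26, 0), (0, 80, 1), (0, 70, 4), (0, 24, 0), (0, 67, 2), (0, 46, 1), (0, 27, 0), (0, 50, 1), (1, 93, 3), (1, 67, 3), (1, 50, 0), (1, 70, 4)],
  [(2, 6, 0), (0, 86, 1), (1, 73, 2), (0, 40, 1), (0, 47, 1), (0, 74, 2), (0, 33, 0), (0, 28, 0), (0, 30, 0), (0, 32, 0), (0, 54, 3), (0, 31, 0), (0, 29, 0), (0, 54, 5)],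
  [(2, 7, 0), (0, 87, 1), (0, 52, 1), (0, 40, 0), (0, 36, 0), (0, 38, 0), (0, 64, 9), (1, 63, 3), (0, 48, 1), (0, 35, 0), (0, 37, 0), (0, 39, 0), (0, 34, 0), (0, 79, 5), (0, 79, 3)],
  [(2, 8, 0), (0, 90, 6), (0, 81, 1), (0, 41, 0), (0, 42, 0), (0, 43, 0), (0, 44, 0), (0, 45, 0), (0, 47, 0), (0, 72, 7), (0, 46, 0), (1, 50, 2), (0, 70, 2), (0, 48, 0), (0, 50, 2), (0, 70, 6), (0, 80, 2), (0, 80, 4), (1, 70, 6)],
  [(0, 51, 0), (1, 69, 2), (1, 92, 3), (0, 68, 5), (2, 9, 0), (0, 88, 1), (0, 66, 2), (0, 49, 0), (0, 53, 5), (1, 67, 4), (0, 80, 3), (0, 67, 6), (0, 54, 4), (0, 56, 7), (0, 61, 7), (1, 93, 1), (1, 70, 3), (0, 70, 5), (0, 52, 0), (1, 50, 1), (0, 92, 5), (1, 93, 5), (1, 67, 2), (1, 68, 3), (0, 81, 2)],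
  [(2, 10, 0), (0, 89, 5), (1, 73, 3), (0, 66, 4), (1, 65, 0), (1, 70, 5), (0, 67, 0), (0, 70, 0), (1, 68, 1), (0, 89, 7), (1, 69, 1)],
  [(0, 65, 0), (0, 79, 2), (0, 70, 3), (0, 66, 0), (0, 71, 0), (1, 74, 3), (0, 73, 7), (1, 93, 4), (0, 93, 6), (1, 70, 1), (1, 69, 4), (1, 92, 5), (0, 69, 0), (0, 89, 1), (0, 89, 3), (1, 67, 1), (0, 82, 0), (0, 68, 0), (0, 92, 6)],
  [(0, 75, 0), (0, 76, 0), (0, 89, 4), (0, 79, 0), (1, 90, 3), (0, 81, 3), (0, 82, 3), (0, 79, 4), (0, 78, 0), (0, 85, 0), (1, 95, 5), (0, 78, 4), (0, 89, 0), (0, 89, 6), (0, 94, 0), (1, 95, 1), (0, 95, 4), (0, 88, 0), (0, 89, 2), (0, 84, 0), (0, 83, 0), (0, 95, 0)],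
  []]

def R : List (List Nat) :=
  [[0, 0],
   [1, 1],
   [2, 2],
   [3, 3],
   [4, 4],
   [5, 5],
   [6, 6],
   [7, 7],
   [8, 8],
   [9, 9],
   [10, 11],
   [11, 10],
   [12, 12],
   [0, 1, 0, 1],
   [0, 2, 0, 2],
   [1, 2, 1, 2],
   [0, 3, 0, 3],
   [1, 3, 1, 3],
   [2, 3, 2, 3],
   [0, 4, 0, 4],
   [1, 4, 1, 4],
   [2, 4, 2, 4],
   [3, 4, 3, 4],
   [0, 5, 0, 5],
   [1, 5, 1, 5],
   [2, 5, 2, 5],
   [3, 5, 3, 5],
   [4, 5, 4, 5],
   [0, 6, 0, 6],
   [1, 6, 1, 6],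
   [2, 6, 2, 6],
   [3, 6, 3, 6],
   [4, 6, 4, 6],
   [5, 6, 5, 6],
   [0, 7, 0, 7],
   [1, 7, 1, 7],
   [2, 7, 2, 7],
   [3, 7, 3, 7],
   [4, 7, 4, 7],
   [5, 7, 5, 7],
   [6, 7, 6, 7],
   [0, 8, 0, 8],
   [1, 8, 1, 8],
   [2, 8, 2, 8],
   [3, 8, 3, 8],
   [4, 8, 4, 8],
   [5, 8, 5, 8],
   [6, 8, 6, 8],
   [7, 8, 7, 8],
   [0, 9, 0, 9],
   [5, 8, 9, 5, 8, 9],
   [1, 9, 1, 9, 1, 9],
   [7, 9, 7, 9, 7, 9],
   [0, 3, 9, 3, 9, 3, 9],
   [2, 4, 6, 9, 6, 4, 2, 9],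
   [2, 9, 2, 9, 2, 9, 2, 9],
   [2, 4, 5, 8, 9, 6, 9, 6, 9],
   [1, 2, 9, 1, 2, 9, 2, 1, 9],
   [2, 3, 9, 2, 3, 9, 3, 2, 9],
   [1, 3, 5, 6, 9, 1, 6, 5, 3, 9],
   [0, 1, 2, 3, 4, 9, 5, 9, 5, 9],
   [0, 1, 3, 4, 5, 6, 9, 4, 9, 4, 9],
   [2, 7, 9, 6, 7, 9, 4, 9, 7, 6, 9],
   [1, 3, 7, 9, 7, 3, 1, 9, 6, 7, 8, 9],
   [1, 5, 7, 9, 1, 5, 7, 9, 7, 5, 1, 9],
   [10, 10, 10],
   [3, 9, 3, 11, 5, 10],
   [2, 5, 10, 9, 5, 9, 11],
   [2, 5, 11, 2, 9, 2, 10],
   [0, 2, 3, 11, 0, 9, 10],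
   [2, 8, 10, 5, 9, 8, 11],
   [0, 11, 1, 2, 3, 4, 5, 10],
   [3, 9, 8, 9, 3, 10, 8, 11],
   [0, 7, 9, 5, 9, 7, 10, 6, 11],
   [2, 6, 9, 7, 10, 7, 11, 7, 9],
   [0, 12, 0, 12, 0, 12],
   [3, 12, 3, 12, 3, 12],
   [0, 2, 3, 12, 3, 2, 0, 12],
   [1, 2, 5, 12, 5, 2, 1, 12],
   [5, 10, 7, 12, 7, 11, 5, 12],
   [5, 8, 9, 8, 5, 9],
   [8, 9, 12, 9, 8, 9, 12, 9],
   [3, 11, 12, 10, 3, 11, 12, 10],
   [1, 12, 1, 12, 1, 12, 1, 12],
   [4, 12, 4, 12, 4, 12, 4, 12],
   [5, 12, 5, 12, 5, 12, 5, 12],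
   [6, 12, 6, 12, 6, 12, 6, 12],
   [7, 12, 7, 12, 7, 12, 7, 12],
   [9, 12, 9, 12, 9, 12, 9, 12],
   [10, 12, 10, 12, 11, 12, 11, 12],
   [5, 8, 12, 5, 12, 8, 12, 5, 12],
   [0, 10, 12, 1, 10, 12, 4, 11, 2, 12],
   [0, 2, 11, 0, 9, 10, 3],
   [0, 3, 9, 11, 5, 10, 9],
   [0, 2, 3, 12, 2, 0, 3, 12],
   [0, 2, 3, 12, 3, 0, 2, 12]]

def W : List (List Nat) := [[0],
   [1],
   [2],
   [3],
   [4],
   [5],
   [6],
   [7],
   [8],
   [9],
   [10],
   [11]]

noncomputable def P : Par := ⟨T, (nat_lit 4), (nat_lit 15), (nat_lit 240), (nat_lit 16), (nat_lit 65535), (nat_lit 8), (nat_lit 255), (nat_lit 13), (nat_lit 196), (nat_lit 208), (nat_lit 0x39ac52d28398a418820), RT⟩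

noncomputable def J0 : List Nat := [
  nat_lit 0x9f080022c200093080024c200083080022c200083080020c200083080024c20008308000400000000000000208182001c000000000040410400018000000000101a0800000000000005403c1018000000018100000820000000000040048010400000000010000000208000000004000000004100003001000000000082c000c040000000010904000010000b000000201040040000000000008220011410248000180000a04680020980c30000381,
  nat_lit 0x2194a24100003208604a00000082d7800048130000000b05ea010a04e9000892b60800800140000030002c1000e04000314020009041001000000380005608800402000e08260000000100c00200b040000000400034005015040000100000000000001040040000000000e0822201596cb74d849800082040010a080a0648000010006300a081e038000400210e32c1000a0001,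
  nat_lit 0xa50000b820000e040070000000104000010240002d005ac1046040070d002000282200159d0881d847000082046610a0a0006000228128063002081e0009004c0210002c1001002813a8a52280b8200000050701400000104c900100016000005801040040061c00002208220010000a000000410280058003009634ab04150100170480004a208920567c206764280002081,
  nat_lit 0x86000a0a40048800403200e3041000a200159f68715841e80082040000000002104a400130004200a0024104005ea00000580008220015c2c884c6f8d800820567da20778da05820810416a800000c0502005ac82a3800638000101000104c0001000140046a03a08127480050010000050a08140288005a001d0000000041001235ea2390d6520890056603c0000007002081,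
  nat_lit 0x8200300002c09016004104090400b0000c5010000a04102d8928000410010000410240020103c0501c068200014040050000000a918208182a0000001c0338a4040082060000000024010001054a03100000004000020810002400281000000416a988014004000000082062400101000002000c820294604a200ce28207800048141ca0000000410244050000800410ad041001,
  nat_lit 0x7088300000052089a04a218ce28297b8a028130c0438cb05e02806050000009610b04021810000a00100024104a0567da1c7791a00020812806c0020954f280405a059c0d000083410018208bd2348011018004104a95bd4e000050012b40a241580e0011804a0010e90410010060103a4561800820482e04008332000600002001002704095b8a00012040000208805000a2001,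
  nat_lit 0x3b80044209d09014405675a215611a83020810098700000002094005677b6076428000208104152400018022880048000a080e7540000013a40a041035a832d40400008005801634188128803830001290006046f701f040c000000017a8a078140835000e040d000a040120302081820200024b0a4300004104095a800300a028112a0a88002e450000040d9c15000040002101,
  nat_lit 0x68c4c82901920014e05050000002cd04d09816801120000380105c05600200028016822701698aa0396070208800565da1d31bc9658208169887019247c1514a0567c2212611c0002081002605800c42208900567b21d37926030208122a6000000402088004ee131d05486d0022810027402a0b1000140050d14d4b5aa0d0050017800001d20430d040044092560700c0002081,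
  nat_lit 0x5ae0a90672ce0508e04627413450744cc56811bd44024b04a2034005037140931a0cc00481002c04994c380c082050001c00018104d4181780003800c00e08060406b80070310082260159f28855e46a00082046f10e0c007024a0181288426820812f0140056a0012a681083160810417448d580c2000e048d832219ad3814510158000798000080082040e2112f5417b0a5481,
  nat_lit 0x1be6383041d29000005ad7289056a4a4ae001428000000c3c10006056084400002800417817800000000022089c05677a1c7791a30020815976871c90758cf820480000074000882000159640000000640582060601d2d5413a0c70012360a4c1531092940050000006698f0400b0190160001c08a208ac05e0001202800000208168e0800d680085b0604600220a80002012a81,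
  nat_lit 0x201ca4c1518e8001604aa1810282c5000018189deb81d84a20106805606000a28100822a015a8004800c3a12082056000120018f202a081426843b4b04a831d405ea9bc0a001088220017a9081980c01d9282056d10c05500165ce0815800b780af700105e05e6e000a001178227017a9d05604310a300604505d77b4a60000e201217332412bcc72c16056a9d4ea23000502081,
  nat_lit 0x59aa8794ad06062820507eadcb7922834120141f18851848b4d0480507d4e14790904d1701020408102040810204081020408102040810204081020408102040810204081020408102040810204081020408102040810204081020408102040810204081020408102040810204081020408102040810204081020408102040810204081020408102040810204081020408102040810204081020408102040810204081020408102040810204081020408102040810204081]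

theorem c0 : chk T (nat_lit 4) (nat_lit 15) (nat_lit 240) (nat_lit 16) (nat_lit 65535) (nat_lit 8) (nat_lit 255) (nat_lit 13) (nat_lit 196) (nat_lit 208) (nat_lit 0x39ac52d28398a418820) (nat_lit 5) (nat_lit 31) RT (nat_lit 16) J0 (nat_lit 16) = true := by
  decide +kernel

theorem r0 : P.RowsOK 16 208 := chk_sound P _ _ _ J0 _ _ (by decide +kernel) c0

theorem index.{u} : IndexLe.{u} 13 R W 180 :=
  indexLe_of_cert P HT (by decide +kernel)
    (show P.RowsOK 16 208 from r0)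

end Tk0

theorem upK : CardLe (genW s [[0], [1], [2], [3], [4], [5], [6], [7], [8], [9], [10], [11], [12]]) 13271040 :=
  CardLe.tc (V' := [[0], [1], [2], [3], [4], [5], [6], [7], [8], [9], [10], [11]]) (n := 180) (m := 73728) [0, 1, 2, 3, 4, 5, 6, 7, 8, 9, 10, 11, 12] Tk0.index pres.sat (by decide +kernel) (by decide +kernel) (by decide +kernel) upK_1

theorem up : CardLe (gen s 14) 9196830720 := upK.step (Top.index _ s pres.sat)

end Cfsg.Agent.SchurG.U62
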